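import Cfsg.Agent.Lib.Pres.SLSeven.Stab

/-!
At most five relations glue an alternating group and `SL_3`.
-/

set_option autoImplicit false

namespace CfsgLib.Pres.SLSeven

open Matrix Equiv
open CfsgLib.Pres.SL3Short (Nm)
open CfsgLib.Pres.SLData (K act P0 P1 P2 P3 act_mul act_inv act_inj)
open scoped commutatorElement

variable {m : ℕ} {F : Type*} [Field F]

/-- the exchange of the first pair with the second -/
def k0213 (m : ℕ) : K m := ⟨swap P0 P2 * swap P1 P3, sign_pair P_ne.2.1 P_ne.2.2.2.2.1⟩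

theorem k0213_act : act (k0213 m) P0 = P2 ∧ act (k0213 m) P1 = P3 ∧ act (k0213 m) P2 = P0 ∧
    act (k0213 m) P3 = P1 := by
  obtain ⟨n01, n02, n03, n12, n13, n23⟩ := P_ne (m := m)
  refine ⟨?_, ?_, ?_, ?_⟩ <;> show (swap P0 P2 * swap P1 P3 : Perm (Fin (m + 4))) _ = _ <;>
    rw [Perm.mul_apply]
  · rw [swap_apply_of_ne_of_ne n01 n03, swap_apply_left]
  · rw [swap_apply_left, swap_apply_of_ne_of_ne n03.symm n23.symm]
  · rw [swap_apply_of_ne_of_ne n12.symm n23, swap_apply_right]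
  · rw [swap_apply_right, swap_apply_of_ne_of_ne n01.symm n12]

theorem k0213_sq : k0213 m * k0213 m = 1 := by
  obtain ⟨n01, n02, n03, n12, n13, n23⟩ := P_ne (m := m)
  refine Subtype.ext ?_
  show swap P0 P2 * swap P1 P3 * (swap P0 P2 * swap P1 P3) = (1 : Perm (Fin (m + 4)))
  rw [← pow_two]
  exact CfsgLib.Recog.sq_swap_mul_swap n01 n03 n12.symm n23

/-- a swap in the first pair fixing the second -/
def k0145 (m : ℕ) (hm : 2 ≤ m) : K m :=
  ⟨swap P0 P1 * swap ⟨4, by omega⟩ ⟨5, by omega⟩, sign_pair P_ne.1 (by simp [Fin.ext_iff])⟩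

theorem k0145_act (hm : 2 ≤ m) : act (k0145 m hm) P0 = P1 ∧ act (k0145 m hm) P1 = P0 ∧
    act (k0145 m hm) P2 = P2 ∧ act (k0145 m hm) P3 = P3 := by
  refine ⟨?_, ?_, ?_, ?_⟩ <;>
    show (swap P0 P1 * swap ⟨4, _⟩ ⟨5, _⟩ : Perm (Fin (m + 4))) _ = _ <;>
    simp [Perm.mul_apply, swap_apply_def, Fin.ext_iff]

variable {X : Type*} [Group X]

/-- the words -/
abbrev Wd (F : Type*) [Field F] (m : ℕ) := FreeGroup (K m ⊕ SpecialLinearGroup (Fin 3) F)

/-- a relation of commutation -/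
def cw (σ : K m) (y : SpecialLinearGroup (Fin 3) F) : Wd F m :=
  ⁅(FreeGroup.of (Sum.inl σ) : Wd F m), (FreeGroup.of (Sum.inr y) : Wd F m)⁆

/-- a relation of relabelling -/
def aw (σ : K m) (y : SpecialLinearGroup (Fin 3) F) : Wd F m :=
  FreeGroup.of (Sum.inl σ) * FreeGroup.of (Sum.inr y) * (FreeGroup.of (Sum.inl σ))⁻¹ *
    (FreeGroup.of (Sum.inr (θ sw y)))⁻¹

/-- a relation between the block and the opposite one -/
def dw (y z : SpecialLinearGroup (Fin 3) F) : Wd F m :=
  ⁅(FreeGroup.of (Sum.inr y) : Wd F m),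
    ((FreeGroup.of (Sum.inl (k0213 m)) : Wd F m) * FreeGroup.of (Sum.inr z) *
    (FreeGroup.of (Sum.inl (k0213 m)))⁻¹ : Wd F m)⁆

variable (ψ : K m →* X) (φ : SpecialLinearGroup (Fin 3) F →* X)

theorem cw_iff (σ : K m) (y : SpecialLinearGroup (Fin 3) F) :
    FreeGroup.lift (Sum.elim ψ φ) (cw σ y) = 1 ↔ Commute (ψ σ) (φ y) := by
  rw [cw, map_commutatorElement, FreeGroup.lift_apply_of, FreeGroup.lift_apply_of,
    commutatorElement_eq_one_iff_commute]
  rfl

theorem aw_iff (σ : K m) (y : SpecialLinearGroup (Fin 3) F) :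
    FreeGroup.lift (Sum.elim ψ φ) (aw σ y) = 1 ↔ ψ σ * φ y * (ψ σ)⁻¹ = φ (θ sw y) := by
  simp only [aw, map_mul, map_inv, FreeGroup.lift_apply_of, Sum.elim_inl, Sum.elim_inr,
    mul_inv_eq_one]

theorem dw_iff (y z : SpecialLinearGroup (Fin 3) F) :
    FreeGroup.lift (Sum.elim ψ φ) (dw (m := m) y z) = 1 ↔
      Commute (φ y) (ψ (k0213 m) * φ z * (ψ (k0213 m))⁻¹) := by
  rw [dw, map_commutatorElement, commutatorElement_eq_one_iff_commute]
  simp only [map_mul, map_inv, FreeGroup.lift_apply_of, Sum.elim_inl, Sum.elim_inr]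

namespace Glue

variable {ψ φ}
variable (G : Glue F m X)

theorem E23 {y : SpecialLinearGroup (Fin 3) F} (hy : y ∈ L2 F) :
    G.ψ (k0213 m) * G.φ y * (G.ψ (k0213 m))⁻¹ = G.E P2 P3 y :=
  G.E_eq P_ne.2.2.2.2.2 k0213_act.1 k0213_act.2.1 hy

theorem E01 {y : SpecialLinearGroup (Fin 3) F} (hy : y ∈ L2 F) : G.φ y = G.E P0 P1 y := by
  have := G.phi_eq 1 y hy
  rwa [θ_one] at this

theorem E32 {y : SpecialLinearGroup (Fin 3) F} (hy : y ∈ L2 F) :
    G.E P3 P2 y = G.E P2 P3 (θ sw y) := by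
  obtain ⟨a0, a1, -, -⟩ := k0213_act (m := m)
  rw [← G.E23 (θ_sw_mem hy), G.phi_eq sw y hy,
    show e3 m (sw 0) = P1 from rfl, show e3 m (sw 1) = P0 from rfl, G.conj_E _ P_ne.1.symm hy, a0, a1]

/-- transposing the two pairs -/
theorem tr {y z : SpecialLinearGroup (Fin 3) F} (hy : y ∈ L2 F) (hz : z ∈ L2 F)
    (h : Commute (G.φ y) (G.E P2 P3 z)) : Commute (G.φ z) (G.E P2 P3 y) := by
  have h' := h.map (MulAut.conj (G.ψ (k0213 m))).toMonoidHom
  simp only [MulEquiv.coe_toMonoidHom, MulAut.conj_apply] at h'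
  rw [G.E23 hy, G.conj_E _ P_ne.2.2.2.2.2 hz, k0213_act.2.2.1, k0213_act.2.2.2, ← G.E01 hz] at h'
  exact h'.symm

theorem disj_of_pair {A B : SpecialLinearGroup (Fin 3) F} (hA : A ∈ L2 F) (hB : B ∈ L2 F)
    (hAB : L2 F ≤ Subgroup.closure {A, B}) (h1 : Commute (G.φ A) (G.E P2 P3 A))
    (h2 : Commute (G.φ A) (G.E P2 P3 B)) (h4 : Commute (G.φ B) (G.E P2 P3 B)) : G.Disj := by
  have h3 := G.tr hA hB h2
  have hall : ∀ y ∈ L2 F, ∀ z ∈ L2 F, Commute (G.φ y) (G.E P2 P3 z) := by
    let Γ : SpecialLinearGroup (Fin 3) F →* X :=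
      (MulAut.conj (G.ψ (k0213 m))).toMonoidHom.comp G.φ
    have hΓ : ∀ z ∈ L2 F, Γ z = G.E P2 P3 z := fun z hz => G.E23 hz
    intro y hy z hz
    rw [← hΓ z hz]
    have step : ∀ w : SpecialLinearGroup (Fin 3) F, Commute (G.φ w) (Γ A) → Commute (G.φ w) (Γ B) →
        Commute (G.φ w) (Γ z) := fun w ha hb => by
      have hle : Subgroup.closure {A, B} ≤ (Subgroup.centralizer {G.φ w}).comap Γ := by
        rw [Subgroup.closure_le]
        rintro _ (rfl | rfl) <;> rw [SetLike.mem_coe, Subgroup.mem_comap,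
          Subgroup.mem_centralizer_singleton_iff]
        exacts [ha.symm.eq, hb.symm.eq]
      exact (Subgroup.mem_centralizer_singleton_iff.1 (hle (hAB hz))).symm
    have eA := step A (by rw [hΓ A hA]; exact h1) (by rw [hΓ B hB]; exact h2)
    have eB := step B (by rw [hΓ A hA]; exact h3) (by rw [hΓ B hB]; exact h4)
    have hle : Subgroup.closure {A, B} ≤ (Subgroup.centralizer {Γ z}).comap G.φ := by
      rw [Subgroup.closure_le]
      rintro _ (rfl | rfl) <;> rw [SetLike.mem_coe, Subgroup.mem_comap,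
        Subgroup.mem_centralizer_singleton_iff]
      exacts [eA.eq, eB.eq]
    exact Subgroup.mem_centralizer_singleton_iff.1 (hle (hAB hy))
  intro t v
  refine ⟨hall _ (tv01_mem t) _ (tv01_mem v), ?_⟩
  show Commute (G.φ (StSL.tv 0 1 t)) (G.E P3 P2 (StSL.tv 0 1 v))
  rw [G.E32 (tv01_mem v)]
  exact hall _ (tv01_mem t) _ (θ_sw_mem (tv01_mem v))

end Glue

section target

variable [Finite F] {φ₀ : SpecialLinearGroup (Fin 3) F →* SpecialLinearGroup (Fin (m + 4)) F}
  (h₀ : ∀ a b t, a ≠ b → φ₀ (StSL.tv a b t) = StSL.tv (e3 m a) (e3 m b) t)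

include h₀

theorem target_acts {σ : K m} {b : Perm (Fin 3)} (h0 : act σ P0 = e3 m (b 0))
    (h1 : act σ P1 = e3 m (b 1)) : Acts AltMono.μ φ₀ σ b := by
  intro y hy
  have hle : L2 F ≤ ((MulAut.conj (AltMono.μ σ)).toMonoidHom.comp φ₀).eqLocus (φ₀.comp (θ b)) := by
    rw [L2, Subgroup.closure_le]
    rintro _ ⟨t, rfl | rfl⟩
    · show AltMono.μ σ * φ₀ _ * (AltMono.μ σ)⁻¹ = φ₀ (θ b _)
      rw [θ_tv _ (by decide), h₀ _ _ _ (by decide), h₀ _ _ _ (b.injective.ne (by decide)),
        AltMono.μ_tv _ (e3_inj.ne (by decide))]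
      exact congrArg₂ (fun u w => StSL.tv u w t) h0 h1
    · show AltMono.μ σ * φ₀ _ * (AltMono.μ σ)⁻¹ = φ₀ (θ b _)
      rw [θ_tv _ (by decide), h₀ _ _ _ (by decide), h₀ _ _ _ (b.injective.ne (by decide)),
        AltMono.μ_tv _ (e3_inj.ne (by decide))]
      exact congrArg₂ (fun u w => StSL.tv u w t) h1 h0
  exact hle hy

theorem target_commute {σ : K m} (h : ∀ i, act σ (e3 m i) = e3 m i)
    (y : SpecialLinearGroup (Fin 3) F) : Commute (AltMono.μ σ) (φ₀ y) := by
  have htop : ((MulAut.conj (AltMono.μ σ)).toMonoidHom.comp φ₀).eqLocus φ₀ = ⊤ := by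
    rw [eq_top_iff, ← closure_tv, Subgroup.closure_le]
    rintro _ ⟨i, j, t, hij, rfl⟩
    show AltMono.μ σ * φ₀ _ * (AltMono.μ σ)⁻¹ = φ₀ _
    rw [h₀ _ _ _ hij, AltMono.μ_tv _ (e3_inj.ne hij)]
    exact congrArg₂ (fun u w => StSL.tv u w t) (h i) (h j)
  exact mul_inv_eq_iff_eq_mul.1 (htop.ge (Subgroup.mem_top y))

theorem target_disj {y z : SpecialLinearGroup (Fin 3) F} (hy : y ∈ L2 F) (hz : z ∈ L2 F) :
    Commute (φ₀ y) (AltMono.μ (k0213 m) * φ₀ z * (AltMono.μ (k0213 m))⁻¹) := by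
  obtain ⟨a0, a1, -, -⟩ := k0213_act (m := m)
  obtain ⟨n01, n02, n03, n12, n13, n23⟩ := P_ne (m := m)
  have R := StSL.rel_tv (K := F) (n := m + 4)
  have hz' : ∀ w ∈ L2 F, ∀ t : F,
      Commute (AltMono.μ (k0213 m) * φ₀ w * (AltMono.μ (k0213 m))⁻¹) (StSL.tv P0 P1 t) ∧
        Commute (AltMono.μ (k0213 m) * φ₀ w * (AltMono.μ (k0213 m))⁻¹) (StSL.tv P1 P0 t) := by
    intro w hw t
    let T : Subgroup (SpecialLinearGroup (Fin (m + 4)) F) :=
      Subgroup.centralizer {StSL.tv P0 P1 t, StSL.tv P1 P0 t}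
    have hle : L2 F ≤ T.comap ((MulAut.conj (AltMono.μ (k0213 m))).toMonoidHom.comp φ₀) := by
      rw [L2, Subgroup.closure_le]
      rintro _ ⟨u, rfl | rfl⟩ <;>
        (rw [SetLike.mem_coe, Subgroup.mem_comap, Subgroup.mem_centralizer_iff]
         rintro _ (rfl | rfl) <;>
          (show Commute _ (AltMono.μ (k0213 m) * φ₀ _ * (AltMono.μ (k0213 m))⁻¹)
           rw [h₀ _ _ _ (by decide), AltMono.μ_tv _ (e3_inj.ne (by decide))]
           rw [show ((k0213 m : K m) : Perm (Fin (m + 4))) (e3 m 0) = P2 from a0,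
             show ((k0213 m : K m) : Perm (Fin (m + 4))) (e3 m 1) = P3 from a1]))
      · exact R.comm n01 n23 n03 n12 _ _
      · exact R.comm n01.symm n23 n13 n02 _ _
      · exact R.comm n01 n23.symm n02 n13 _ _
      · exact R.comm n01.symm n23.symm n12 n03 _ _
    have := Subgroup.mem_centralizer_iff.1 (hle hw)
    exact ⟨(this _ (Set.mem_insert _ _)).symm,
      (this _ (Set.mem_insert_of_mem _ (Set.mem_singleton _))).symm⟩
  induction hy using Subgroup.closure_induction with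
  | mem w hw =>
    obtain ⟨t, rfl | rfl⟩ := hw <;> rw [h₀ _ _ _ (by decide)]
    · exact (hz' z hz t).1.symm
    · exact (hz' z hz t).2.symm
  | one => rw [map_one]; exact Commute.one_left _
  | mul a b _ _ ha hb => rw [map_mul]; exact ha.mul_left hb
  | inv a _ ha => rw [map_inv]; exact ha.inv_left

end target

/-- the data of the block: a pair, and what it needs of the opposite pair -/
theorem exists_block_pair (F : Type*) [Field F] [Fintype F] :
    ∃ (A B : SpecialLinearGroup (Fin 3) F), A ∈ L2 F ∧ B ∈ L2 F ∧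
      L2 F ≤ Subgroup.closure {A, B} ∧
      ((θ sw A = B ∧ θ sw B = A) ∨ ∃ ω : Fˣ, A = AltMono.dg ω 0 1) := by
  classical
  by_cases h4 : 4 ≤ Fintype.card F
  · obtain ⟨ω, hω⟩ := IsCyclic.exists_monoid_generator (α := Fˣ)
    exact ⟨_, _, dg01_mem ω, mul_mem (tv01_mem 1) Nm_mem,
      pair_gen h4 (fun u => Submonoid.mem_powers_iff _ _ |>.1 (hω u)), Or.inr ⟨ω, rfl⟩⟩
  · refine ⟨_, _, tv01_mem 1, tv10_mem 1, small_gen (by omega), Or.inl ⟨?_, ?_⟩⟩ <;>
      rw [θ_tv _ (by decide)] <;> rfl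

/-- The number of glueing relations. -/
def nGlue (m : ℕ) : ℕ := if m = 1 then 5 else 4

set_option maxHeartbeats 1000000 in
/-- The glueing relations. -/
theorem exists_glue (F : Type*) [Field F] [Fintype F] (m : ℕ)
    {φ₀ : SpecialLinearGroup (Fin 3) F →* SpecialLinearGroup (Fin (m + 4)) F}
    (h₀ : ∀ a b t, a ≠ b → φ₀ (StSL.tv a b t) = StSL.tv (e3 m a) (e3 m b) t) :
    ∃ L : List (Wd F m), L.length ≤ nGlue m ∧
      (∀ w ∈ L, FreeGroup.lift (Sum.elim AltMono.μ φ₀) w = 1) ∧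
      ∀ (X : Type) [Group X] (ψ : K m →* X) (φ : SpecialLinearGroup (Fin 3) F →* X),
        ψ (k3 m) = φ Pm → (∀ w ∈ L, FreeGroup.lift (Sum.elim ψ φ) w = 1) →
        ∃ G : Glue F m X, G.ψ = ψ ∧ G.φ = φ ∧ G.Disj := by
  classical
  obtain ⟨A, B, hA, hB, hAB, hcase⟩ := exists_block_pair F
  obtain ⟨a, ha⟩ := exists_gen_shift (F := F)
  have hsw : Acts AltMono.μ φ₀ (k01 m) sw := target_acts h₀ k01_act.1 k01_act.2.1
  rcases (show m = 0 ∨ m = 1 ∨ 2 ≤ m by omega) with rfl | rfl | hm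
  · -- four indices
    obtain ⟨R, hR, hhold, hRv⟩ : ∃ R : List (Wd F 0), R.length ≤ 2 ∧
        (∀ w ∈ R, FreeGroup.lift (Sum.elim AltMono.μ φ₀) w = 1) ∧
        ∀ (X : Type) [Group X] (G : Glue F 0 X),
          (∀ w ∈ R, FreeGroup.lift (Sum.elim G.ψ G.φ) w = 1) → G.Disj := by
      rcases hcase with ⟨s1, s2⟩ | ⟨ω, rfl⟩
      · refine ⟨[dw A A, dw A B], by simp, ?_, fun X _ G hw => ?_⟩
        · simp only [List.forall_mem_cons, List.not_mem_nil, IsEmpty.forall_iff, implies_true,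
            and_true, dw_iff]
          exact ⟨target_disj h₀ hA hA, target_disj h₀ hA hB⟩
        · simp only [List.forall_mem_cons, List.not_mem_nil, IsEmpty.forall_iff, implies_true,
            and_true, dw_iff] at hw
          rw [G.E23 hA, G.E23 hB] at hw
          refine G.disj_of_pair hA hB hAB hw.1 hw.2 ?_
          have h := hw.1.map (MulAut.conj (G.ψ (k01 0))).toMonoidHom
          simp only [MulEquiv.coe_toMonoidHom, MulAut.conj_apply] at h
          rw [G.flip A hA, s1, G.conj_E _ P_ne.2.2.2.2.2 hA, k01_act.2.2,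
            show act (k01 0) P3 = P2 by decide, G.E32 hA, s1] at h
          exact h
      · refine ⟨[dw B B], by simp, ?_, fun X _ G hw => ?_⟩
        · simp only [List.forall_mem_cons, List.not_mem_nil, IsEmpty.forall_iff, implies_true,
            and_true, dw_iff]
          exact target_disj h₀ hB hB
        · simp only [List.forall_mem_cons, List.not_mem_nil, IsEmpty.forall_iff, implies_true,
            and_true, dw_iff] at hw
          rw [G.E23 hB] at hw
          exact G.disj_of_pair hA hB hAB (G.torus ω _ hA) (G.tr hB hA (G.torus ω B hB)) hw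
    refine ⟨[aw (k01 0) A, aw (k01 0) B] ++ R, by simp [nGlue]; omega, ?_,
      fun X _ ψ φ hc hw => ?_⟩
    · refine List.forall_mem_append.2 ⟨?_, hhold⟩
      simp only [List.forall_mem_cons, List.not_mem_nil, IsEmpty.forall_iff, implies_true,
        and_true, aw_iff]
      exact ⟨hsw A hA, hsw B hB⟩
    · obtain ⟨hw1, hw2⟩ := List.forall_mem_append.1 hw
      simp only [List.forall_mem_cons, List.not_mem_nil, IsEmpty.forall_iff, implies_true,
        and_true, aw_iff] at hw1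
      let G : Glue F 0 X :=
        { ψ := ψ, φ := φ, hc := hc
          fix := fun σ h0 h1 y _ => by rw [stab_four σ h0 h1, map_one]; exact Commute.one_left _
          flip := acts_of_pair ψ φ hAB hw1.1 hw1.2 }
      exact ⟨G, rfl, rfl, hRv X G hw2⟩
  · -- five indices
    obtain ⟨R, hR, hhold, hRv⟩ : ∃ R : List (Wd F 1), R.length ≤ 2 ∧
        (∀ w ∈ R, FreeGroup.lift (Sum.elim AltMono.μ φ₀) w = 1) ∧
        ∀ (X : Type) [Group X] (ψ : K 1 →* X) (φ : SpecialLinearGroup (Fin 3) F →* X),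
          ψ (k01 1) * φ A * (ψ (k01 1))⁻¹ = φ (θ sw A) →
          (∀ w ∈ R, FreeGroup.lift (Sum.elim ψ φ) w = 1) →
          ψ (k01 1) * φ B * (ψ (k01 1))⁻¹ = φ (θ sw B) ∧
            ∀ G : Glue F 1 X, G.ψ = ψ → G.φ = φ → G.Disj := by
      rcases hcase with ⟨s1, s2⟩ | ⟨ω, rfl⟩
      · refine ⟨[dw A A, dw A B], by simp, ?_, fun X _ ψ φ hf hw => ⟨?_, ?_⟩⟩
        · simp only [List.forall_mem_cons, List.not_mem_nil, IsEmpty.forall_iff, implies_true,
            and_true, dw_iff]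
          exact ⟨target_disj h₀ hA hA, target_disj h₀ hA hB⟩
        · have hk : ψ (k01 1) * ψ (k01 1) = 1 := by
            rw [← map_mul, show k01 1 * k01 1 = 1 by decide, map_one]
          rw [s2]
          rw [s1] at hf
          rw [← hf, inv_eq_of_mul_eq_one_left hk]
          rw [show ψ (k01 1) * (ψ (k01 1) * φ A * ψ (k01 1)) * ψ (k01 1) =
            (ψ (k01 1) * ψ (k01 1)) * φ A * (ψ (k01 1) * ψ (k01 1)) by group, hk, one_mul, mul_one]
        · rintro G rfl rfl
          simp only [List.forall_mem_cons, List.not_mem_nil, IsEmpty.forall_iff, implies_true,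
            and_true, dw_iff] at hw
          rw [G.E23 hA, G.E23 hB] at hw
          refine G.disj_of_pair hA hB hAB hw.1 hw.2 ?_
          have h := hw.1.map (MulAut.conj (G.ψ (k01 1))).toMonoidHom
          simp only [MulEquiv.coe_toMonoidHom, MulAut.conj_apply] at h
          rw [G.flip A hA, s1, G.conj_E _ P_ne.2.2.2.2.2 hA, k01_act.2.2,
            show act (k01 1) P3 = P2 by decide, G.E32 hA, s1] at h
          exact h
      · refine ⟨[aw (k01 1) B, dw B B], by simp, ?_, fun X _ ψ φ hf hw => ⟨?_, ?_⟩⟩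
        · simp only [List.forall_mem_cons, List.not_mem_nil, IsEmpty.forall_iff, implies_true,
            and_true, dw_iff, aw_iff]
          exact ⟨hsw B hB, target_disj h₀ hB hB⟩
        · simp only [List.forall_mem_cons, List.not_mem_nil, IsEmpty.forall_iff, implies_true,
            and_true, dw_iff, aw_iff] at hw
          exact hw.1
        · rintro G rfl rfl
          simp only [List.forall_mem_cons, List.not_mem_nil, IsEmpty.forall_iff, implies_true,
            and_true, dw_iff, aw_iff] at hw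
          rw [G.E23 hB] at hw
          exact G.disj_of_pair hA hB hAB (G.torus ω _ hA) (G.tr hB hA (G.torus ω B hB)) hw.2
    refine ⟨[aw (k01 1) A, cw k234 A, cw k234 B] ++ R, by simp [nGlue]; omega, ?_,
      fun X _ ψ φ hc hw => ?_⟩
    · refine List.forall_mem_append.2 ⟨?_, hhold⟩
      simp only [List.forall_mem_cons, List.not_mem_nil, IsEmpty.forall_iff, implies_true,
        and_true, aw_iff, cw_iff]
      have hf : Acts AltMono.μ φ₀ k234 1 :=
        target_acts h₀ (show act k234 P0 = P0 by decide) (show act k234 P1 = P1 by decide)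
      rw [acts_one] at hf
      exact ⟨hsw A hA, hf A hA, hf B hB⟩
    · obtain ⟨hw1, hw2⟩ := List.forall_mem_append.1 hw
      simp only [List.forall_mem_cons, List.not_mem_nil, IsEmpty.forall_iff, implies_true,
        and_true, aw_iff, cw_iff] at hw1
      obtain ⟨hfB, hdisj⟩ := hRv X ψ φ hw1.1 hw2
      have h234 : ∀ y ∈ L2 F, Commute (ψ k234) (φ y) := by
        intro y hy
        have hle : Subgroup.closure {A, B} ≤ (Subgroup.centralizer {ψ k234}).comap φ := by
          rw [Subgroup.closure_le]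
          rintro _ (rfl | rfl) <;> rw [SetLike.mem_coe, Subgroup.mem_comap,
            Subgroup.mem_centralizer_singleton_iff]
          exacts [hw1.2.1.symm.eq, hw1.2.2.symm.eq]
        exact (Subgroup.mem_centralizer_singleton_iff.1 (hle (hAB hy))).symm
      let G : Glue F 1 X :=
        { ψ := ψ, φ := φ, hc := hc
          fix := fun σ h0 h1 y hy => by
            rcases stab_five σ h0 h1 with rfl | rfl | rfl
            · rw [map_one]; exact Commute.one_left _
            · exact h234 y hy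
            · rw [map_mul]; exact (h234 y hy).mul_left (h234 y hy)
          flip := acts_of_pair ψ φ hAB hw1.1 hfB }
      exact ⟨G, rfl, rfl, hdisj G rfl rfl⟩
  · -- six or more indices
    obtain ⟨R, hR, hhold, hRv⟩ : ∃ R : Wd F m, True ∧
        FreeGroup.lift (Sum.elim AltMono.μ φ₀) R = 1 ∧
        ∀ (X : Type) [Group X] (G : Glue F m X),
          (∀ σ : K m, act σ P0 = P1 → act σ P1 = P0 → Acts G.ψ G.φ σ sw) →
          FreeGroup.lift (Sum.elim G.ψ G.φ) R = 1 → G.Disj := by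
      rcases hcase with ⟨s1, s2⟩ | ⟨ω, rfl⟩
      · refine ⟨dw A A, trivial, (dw_iff _ _ _ _).2 (target_disj h₀ hA hA), fun X _ G hs hw => ?_⟩
        rw [dw_iff, G.E23 hA] at hw
        obtain ⟨c0, c1, c2, c3⟩ := k0145_act hm
        have hflip : ∀ z ∈ L2 F, Commute (G.φ A) (G.E P2 P3 z) → Commute (G.φ B) (G.E P2 P3 z) := by
          intro z hz h
          have h' := h.map (MulAut.conj (G.ψ (k0145 m hm))).toMonoidHom
          simp only [MulEquiv.coe_toMonoidHom, MulAut.conj_apply] at h'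
          rwa [hs _ c0 c1 A hA, s1, G.conj_E _ P_ne.2.2.2.2.2 hz, c2, c3] at h'
        have hAB' : Commute (G.φ A) (G.E P2 P3 B) := G.tr hB hA (hflip A hA hw)
        exact G.disj_of_pair hA hB hAB hw hAB' (hflip B hB hAB')
      · refine ⟨dw B B, trivial, (dw_iff _ _ _ _).2 (target_disj h₀ hB hB), fun X _ G _ hw => ?_⟩
        rw [dw_iff, G.E23 hB] at hw
        exact G.disj_of_pair hA hB hAB (G.torus ω _ hA) (G.tr hB hA (G.torus ω B hB)) hw
    refine ⟨[cw (stabS m hm) a, aw (stabK m hm) A, aw (stabK m hm) B, R],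
      by simp [nGlue, show m ≠ 1 by omega], ?_, fun X _ ψ φ hc hw => ?_⟩
    · simp only [List.forall_mem_cons, List.not_mem_nil, IsEmpty.forall_iff, implies_true,
        and_true, aw_iff, cw_iff]
      obtain ⟨s0, s1, s2⟩ := stabS_fix hm
      have hK : Acts AltMono.μ φ₀ (stabK m hm) sw :=
        target_acts h₀ (stabK_acts hm).1 (stabK_acts hm).2
      exact ⟨target_commute h₀ (fun i => by fin_cases i; exacts [s0, s1, s2]) a, hK A hA, hK B hB,
        hhold⟩
    · simp only [List.forall_mem_cons, List.not_mem_nil, IsEmpty.forall_iff, implies_true,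
        and_true, aw_iff, cw_iff] at hw
      obtain ⟨w1, w2, w3, w4⟩ := hw
      obtain ⟨s0, s1, s2⟩ := stabS_fix hm
      obtain ⟨hfix, hswp⟩ := stab_acts ψ φ hm (commute_all ψ φ s0 s1 s2 hc ha w1)
        (acts_of_pair ψ φ hAB w2 w3)
      let G : Glue F m X :=
        { ψ := ψ, φ := φ, hc := hc
          fix := fun σ h0 h1 y hy => (acts_one ψ φ).1 (hfix σ h0 h1) y hy
          flip := hswp _ k01_act.1 k01_act.2.1 }
      exact ⟨G, rfl, rfl, hRv X G hswp w4⟩

end CfsgLib.Pres.SLSeven
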