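import Cfsg.Agent.Lib.Pres.SLSeven.Gens

/-!
`SL_3` over a finite field is generated by the cyclic shift and one more element.
-/

set_option autoImplicit false

namespace CfsgLib.Pres.SLSeven

open Matrix Equiv
open scoped commutatorElement

variable {F : Type*} [Field F]

theorem gen_of_rows {S : Subgroup (SpecialLinearGroup (Fin 3) F)} (hP : Pm ∈ S)
    (h21 : ∀ t : F, StSL.tv 2 1 t ∈ S) : S = ⊤ := by
  have R := StSL.rel_tv (K := F) (n := 3)
  have rot : ∀ {i j : Fin 3}, i ≠ j → (∀ t : F, StSL.tv i j t ∈ S) →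
      ∀ t : F, StSL.tv (cy i) (cy j) t ∈ S := fun {i j} h hh t => by
    rw [← Pm_tv h]
    exact mul_mem (mul_mem hP (hh t)) (inv_mem hP)
  have h02 : ∀ t : F, StSL.tv 0 2 t ∈ S := by
    have := rot (show (2 : Fin 3) ≠ 1 by decide) h21
    rwa [show cy 2 = 0 by decide, show cy 1 = 2 by decide] at this
  have h10 : ∀ t : F, StSL.tv 1 0 t ∈ S := by
    have := rot (show (0 : Fin 3) ≠ 2 by decide) h02
    rwa [show cy 0 = 1 by decide, show cy 2 = 0 by decide] at this
  have hp : ∀ {i j l : Fin 3}, i ≠ j → j ≠ l → i ≠ l → (∀ t : F, StSL.tv i j t ∈ S) →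
      (∀ t : F, StSL.tv j l t ∈ S) → ∀ t : F, StSL.tv i l t ∈ S := fun h h' h'' a b t => by
    rw [← mul_one t, ← R.prod h h' h'', commutatorElement_def]
    exact mul_mem (mul_mem (mul_mem (a _) (b _)) (inv_mem (a _))) (inv_mem (b _))
  have h12 := hp (show (1 : Fin 3) ≠ 0 by decide) (by decide) (show (1 : Fin 3) ≠ 2 by decide) h10 h02
  have h20 := hp (show (2 : Fin 3) ≠ 1 by decide) (by decide) (show (2 : Fin 3) ≠ 0 by decide) h21 h10
  have h01 := hp (show (0 : Fin 3) ≠ 2 by decide) (by decide) (show (0 : Fin 3) ≠ 1 by decide) h02 h21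
  refine CfsgLib.Classical.eq_top_of_transvection_mem _ fun i j h t => ?_
  rw [← StSL.tv_eq h]
  fin_cases i <;> fin_cases j <;> first
    | exact absurd rfl h
    | exact h01 t
    | exact h02 t
    | exact h10 t
    | exact h12 t
    | exact h20 t
    | exact h21 t

theorem exists_gen_ne_four [Fintype F] (h4 : Fintype.card F ≠ 4) :
    ∃ a : SpecialLinearGroup (Fin 3) F, Subgroup.closure {a, Pm} = ⊤ := by
  classical
  obtain ⟨ω, hω'⟩ := IsCyclic.exists_monoid_generator (α := Fˣ)
  have hω : ∀ u : Fˣ, ∃ i : ℕ, ω ^ i = u := fun u => Submonoid.mem_powers_iff _ _ |>.1 (hω' u)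
  set d : SpecialLinearGroup (Fin 3) F := AltMono.dg ω 0 1 * AltMono.dg ω 2 1
  set u : SpecialLinearGroup (Fin 3) F := StSL.tv 0 2 1
  refine ⟨u * d, ?_⟩
  set S := Subgroup.closure ({u * d, Pm} : Set (SpecialLinearGroup (Fin 3) F))
  have hP : Pm ∈ S := Subgroup.subset_closure (Set.mem_insert_of_mem _ (Set.mem_singleton _))
  have ha : u * d ∈ S := Subgroup.subset_closure (Set.mem_insert _ _)
  have R := StSL.rel_tv (K := F) (n := 3)
  have dact : ∀ {i j : Fin 3}, i ≠ j → ∀ t : F, d * StSL.tv i j t * d⁻¹ =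
      StSL.tv i j (AltMono.χ ω 0 1 i / AltMono.χ ω 0 1 j *
        (AltMono.χ ω 2 1 i / AltMono.χ ω 2 1 j * t)) := fun {i j} h t => by
    rw [show d * StSL.tv i j t * d⁻¹ = AltMono.dg ω 0 1 *
      (AltMono.dg ω 2 1 * StSL.tv i j t * (AltMono.dg ω 2 1)⁻¹) * (AltMono.dg ω 0 1)⁻¹ by
        simp only [d]; group, AltMono.dg_tv _ _ _ h, AltMono.dg_tv _ _ _ h]
  have hc : Commute u d := by
    have := dact (show (0 : Fin 3) ≠ 2 by decide) (1 : F)
    rw [show AltMono.χ ω (0 : Fin 3) 1 0 / AltMono.χ ω 0 1 2 *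
      (AltMono.χ ω (2 : Fin 3) 1 0 / AltMono.χ ω 2 1 2 * (1 : F)) = 1 by
        simp [AltMono.χ, ω.ne_zero], mul_inv_eq_iff_eq_mul] at this
    exact this.symm
  have hd : ∀ k : ℕ, d ^ k = AltMono.dg (ω ^ k) 0 1 * AltMono.dg (ω ^ k) 2 1 := by
    intro k
    induction k with
    | zero =>
      rw [pow_zero, pow_zero]
      exact Subtype.ext (by
        show (1 : Matrix (Fin 3) (Fin 3) F) = (AltMono.dg 1 0 1).1 * (AltMono.dg 1 2 1).1
        rw [SL3Short.dg_val, SL3Short.dg_val]
        ext i j; fin_cases i <;> fin_cases j <;> simp [AltMono.χ])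
    | succ k ih =>
      rw [pow_succ, ih]
      refine Subtype.ext ?_
      show (AltMono.dg (ω ^ k) 0 1).1 * (AltMono.dg (ω ^ k) 2 1).1 *
        ((AltMono.dg ω 0 1).1 * (AltMono.dg ω 2 1).1) =
        (AltMono.dg (ω ^ (k + 1)) 0 1).1 * (AltMono.dg (ω ^ (k + 1)) 2 1).1
      rw [SL3Short.dg_val, SL3Short.dg_val, SL3Short.dg_val, SL3Short.dg_val, SL3Short.dg_val,
        SL3Short.dg_val]
      ext i j; fin_cases i <;> fin_cases j <;>
        simp [AltMono.χ, pow_succ] <;> ring
  have hupow : ∀ k : ℕ, u ^ k = StSL.tv 0 2 (k : F) := by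
    intro k
    induction k with
    | zero => rw [pow_zero, Nat.cast_zero, R.zero (by decide)]
    | succ k ih => rw [pow_succ, ih, R.add (by decide), Nat.cast_succ]
  have hu : u ∈ S := by
    have h : (u * d) ^ (Fintype.card F - 1) = StSL.tv 0 2 (-1 : F) := by
      have hd0 := hd 0
      rw [pow_zero, pow_zero] at hd0
      rw [hc.mul_pow, hupow, hd,
        show ω ^ (Fintype.card F - 1) = 1 by rw [← orderOf_gen hω, pow_orderOf_eq_one], ← hd0, mul_one,
        Nat.cast_sub (Nat.one_le_iff_ne_zero.2 Fintype.card_ne_zero), FiniteField.cast_card_eq_zero,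
        Nat.cast_one, zero_sub]
    have hh := inv_mem (pow_mem ha (Fintype.card F - 1))
    rw [h] at hh
    rwa [← eq_inv_of_mul_eq_one_left (show u * StSL.tv 0 2 (-1 : F) = 1 by
      rw [R.add (by decide), add_neg_cancel, R.zero (by decide)])] at hh
  have hdS : d ∈ S := by
    have := mul_mem (inv_mem hu) ha
    rwa [inv_mul_cancel_left] at this
  obtain ⟨E, hE, -, hspan⟩ := SL3Short.exists_span hω
  refine gen_of_rows hP ?_
  let T : AddSubgroup F :=
    { carrier := {t | StSL.tv 2 1 t ∈ S}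
      zero_mem' := by
        show StSL.tv 2 1 (0 : F) ∈ S
        rw [R.zero (by decide)]; exact one_mem _
      add_mem' := fun {t u} ht hu => by
        show StSL.tv 2 1 (t + u) ∈ S
        rw [← R.add (by decide)]; exact mul_mem ht hu
      neg_mem' := fun {t} ht => by
        show StSL.tv 2 1 (-t) ∈ S
        rw [show StSL.tv (2 : Fin 3) 1 (-t) = (StSL.tv 2 1 t)⁻¹ from eq_inv_of_mul_eq_one_left (by
          rw [R.add (by decide), neg_add_cancel, R.zero (by decide)])]
        exact inv_mem ht }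
  refine hspan T fun i e he => ?_
  rw [hE h4] at he
  obtain rfl : e = (ω : F) ^ 0 := by simpa using he
  show StSL.tv 2 1 _ ∈ S
  rw [pow_zero, mul_one]
  induction i with
  | zero =>
    rw [pow_zero]
    have := mul_mem (mul_mem hP (mul_mem (mul_mem hP hu) (inv_mem hP))) (inv_mem hP)
    simp only [u, Pm_tv (show (0 : Fin 3) ≠ 2 by decide)] at this
    rw [Pm_tv (by decide)] at this
    rwa [show cy (cy 0) = 2 by decide, show cy (cy 2) = 1 by decide] at this
  | succ i ih =>
    have := mul_mem (mul_mem hdS ih) (inv_mem hdS)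
    rw [dact (show (2 : Fin 3) ≠ 1 by decide)] at this
    convert this using 2
    simp [AltMono.χ, pow_succ']
    ring

/-- addition on four letters -/
def add4 : Fin 4 → Fin 4 → Fin 4 := ![![0, 1, 2, 3], ![1, 0, 3, 2], ![2, 3, 0, 1], ![3, 2, 1, 0]]

/-- multiplication on four letters -/
def mul4 : Fin 4 → Fin 4 → Fin 4 := ![![0, 0, 0, 0], ![0, 1, 2, 3], ![0, 2, 3, 1], ![0, 3, 1, 2]]

/-- matrices over four letters -/
def mmul (A B : Fin 3 → Fin 3 → Fin 4) : Fin 3 → Fin 3 → Fin 4 := fun i j =>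
  add4 (add4 (mul4 (A i 0) (B 0 j)) (mul4 (A i 1) (B 1 j))) (mul4 (A i 2) (B 2 j))

/-- the extra element, on four letters -/
def am : Fin 3 → Fin 3 → Fin 4 := ![![2, 0, 1], ![0, 1, 0], ![3, 0, 1]]

/-- the shift, on four letters -/
def cm : Fin 3 → Fin 3 → Fin 4 := ![![0, 0, 1], ![1, 0, 0], ![0, 1, 0]]

/-- evaluation of a word -/
def wm : List Bool → Fin 3 → Fin 3 → Fin 4
  | [] => ![![1, 0, 0], ![0, 1, 0], ![0, 0, 1]]
  | b :: l => mmul (if b then am else cm) (wm l)

set_option maxRecDepth 8000 in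
theorem exists_gen_four [Fintype F] (h4 : Fintype.card F = 4) :
    ∃ a : SpecialLinearGroup (Fin 3) F, Subgroup.closure {a, Pm} = ⊤ := by
  classical
  obtain ⟨p, hp⟩ := CharP.exists F
  have : Fact p.Prime := ⟨CharP.char_is_prime F p⟩
  have : CharP F 2 := by
    obtain ⟨n, -, hn⟩ := FiniteField.card F p
    have h22 : p = 2 := (Nat.prime_dvd_prime_iff_eq (Fact.out : p.Prime) Nat.prime_two).1
      ((Fact.out : p.Prime).dvd_of_dvd_pow (show p ∣ 2 ^ 2 by
        rw [show (2 : ℕ) ^ 2 = p ^ (n : ℕ) by rw [← hn, h4]; norm_num]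
        exact dvd_pow_self p n.ne_zero))
    rwa [h22] at hp
  have h2 : (2 : F) = 0 := CharTwo.two_eq_zero
  obtain ⟨w, hw0, hw1⟩ : ∃ w : F, w ≠ 0 ∧ w ≠ 1 := by
    have h : ((Finset.univ : Finset F) \ {0, 1}).Nonempty := by
      rw [← Finset.card_pos]
      have := Finset.le_card_sdiff ({0, 1} : Finset F) Finset.univ
      have := (Finset.card_le_two : ({0, 1} : Finset F).card ≤ 2)
      rw [Finset.card_univ, h4] at *
      omega
    obtain ⟨w, hw⟩ := h
    simp only [Finset.mem_sdiff, Finset.mem_insert, Finset.mem_singleton, not_or] at hw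
    exact ⟨w, hw.2⟩
  have hq : w * w = w + 1 := by
    have h : w ^ 4 = w := by rw [← h4]; exact FiniteField.pow_card w
    have : w * (w - 1) * (w * w + w + 1) = 0 := by linear_combination h
    have h' := (mul_eq_zero.1 this).resolve_left (mul_ne_zero hw0 (sub_ne_zero.2 hw1))
    linear_combination h' - (w + 1) * h2
  let f : Fin 4 → F := ![0, 1, w, w + 1]
  have fa : ∀ x y, f (add4 x y) = f x + f y := by
    intro x y; fin_cases x <;> fin_cases y <;> simp [f, add4] <;> grind
  have fm : ∀ x y, f (mul4 x y) = f x * f y := by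
    intro x y; fin_cases x <;> fin_cases y <;> simp [f, mul4] <;> grind
  let M : (Fin 3 → Fin 3 → Fin 4) → Matrix (Fin 3) (Fin 3) F := fun A i j => f (A i j)
  have hM : ∀ A B, M (mmul A B) = M A * M B := fun A B => by
    ext i j
    show _ = ∑ k, f (A i k) * f (B k j)
    simp only [M, mmul, Fin.sum_univ_three, fa, fm]
  let a : SpecialLinearGroup (Fin 3) F := ⟨M am, by
    rw [Matrix.det_fin_three]; simp [M, am, f]; grind⟩
  refine ⟨a, ?_⟩
  set S := Subgroup.closure ({a, Pm} : Set (SpecialLinearGroup (Fin 3) F))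
  have hP : Pm ∈ S := Subgroup.subset_closure (Set.mem_insert_of_mem _ (Set.mem_singleton _))
  have ha : a ∈ S := Subgroup.subset_closure (Set.mem_insert _ _)
  have hc : (Pm (F := F)).1 = M cm := by
    show (cy⁻¹ : Perm (Fin 3)).permMatrix F = M cm
    ext i j
    fin_cases i <;> fin_cases j <;> simp [Equiv.Perm.permMatrix, M, cm, f, cy, swap_apply_def]
  have hword : ∀ l : List Bool, ∃ g ∈ S, g.1 = M (wm l) := by
    intro l
    induction l with
    | nil =>
      refine ⟨1, one_mem _, ?_⟩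
      ext i j; fin_cases i <;> fin_cases j <;> simp [M, wm, f]
    | cons b l ih =>
      obtain ⟨g, hg, e⟩ := ih
      cases b
      · exact ⟨Pm * g, mul_mem hP hg, by show Pm.1 * g.1 = _; rw [hc, e, ← hM]; rfl⟩
      · exact ⟨a * g, mul_mem ha hg, by show a.1 * g.1 = _; rw [e, ← hM]; rfl⟩
  have e1 : wm [true, false, false, true, true, true, false, false, true, false, true, true, false] =
      ![![1, 1, 0], ![0, 1, 0], ![0, 0, 1]] := by decide
  have e2 : wm [true, false, true, true, false, true, true, false, false, true, true, true, false,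
      false, true] = ![![1, 2, 0], ![0, 1, 0], ![0, 0, 1]] := by decide
  have h01 : ∀ x : Fin 4, x = 1 ∨ x = 2 →
      ![![1, x, 0], ![0, 1, 0], ![0, 0, 1]] ∈ Set.range wm → StSL.tv 0 1 (f x) ∈ S := by
    rintro x hx ⟨l, hl⟩
    obtain ⟨g, hg, e⟩ := hword l
    rwa [show StSL.tv (0 : Fin 3) 1 (f x) = g from Subtype.ext (by
      rw [e, hl, StSL.tv_coe (by decide)]
      ext i j
      fin_cases i <;> fin_cases j <;>
        simp [Matrix.transvection, Matrix.one_apply, Matrix.single_apply, M, f])]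
  have t1 : StSL.tv 0 1 (1 : F) ∈ S := by simpa [f] using h01 1 (Or.inl rfl) ⟨_, e1⟩
  have tw : StSL.tv 0 1 w ∈ S := by simpa [f] using h01 2 (Or.inr rfl) ⟨_, e2⟩
  have R := StSL.rel_tv (K := F) (n := 3)
  have hall : ∀ t : F, StSL.tv 0 1 t ∈ S := by
    have hcover : ∀ t : F, t = 0 ∨ t = 1 ∨ t = w ∨ t = w + 1 := by
      intro t
      by_contra hne
      simp only [not_or] at hne
      have hw10 : w + 1 ≠ 0 := fun e => hw1 (by linear_combination e - h2)
      have : ({0, 1, w, w + 1, t} : Finset F).card = 5 := by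
        rw [Finset.card_insert_of_notMem, Finset.card_insert_of_notMem,
          Finset.card_insert_of_notMem, Finset.card_insert_of_notMem, Finset.card_singleton] <;>
          simp [hw0, hw1, Ne.symm hw0, Ne.symm hw1, hne, Ne.symm hne.1, Ne.symm hne.2.1,
            Ne.symm hne.2.2.1, Ne.symm hne.2.2.2, Ne.symm hw10]
      have := Finset.card_le_univ ({0, 1, w, w + 1, t} : Finset F)
      omega
    intro t
    rcases hcover t with rfl | rfl | rfl | rfl
    · rw [R.zero (by decide)]; exact one_mem _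
    · exact t1
    · exact tw
    · rw [← R.add (by decide)]; exact mul_mem tw t1
  have rot : ∀ {i j : Fin 3}, i ≠ j → (∀ t : F, StSL.tv i j t ∈ S) →
      ∀ t : F, StSL.tv (cy i) (cy j) t ∈ S := fun {i j} h hh t => by
    rw [← Pm_tv h]
    exact mul_mem (mul_mem hP (hh t)) (inv_mem hP)
  have h12 := rot (show (0 : Fin 3) ≠ 1 by decide) hall
  rw [show cy 0 = 1 by decide, show cy 1 = 2 by decide] at h12
  have h20 := rot (show (1 : Fin 3) ≠ 2 by decide) h12
  rw [show cy 1 = 2 by decide, show cy 2 = 0 by decide] at h20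
  refine gen_of_rows hP fun t => ?_
  rw [← mul_one t, ← R.prod (show (2 : Fin 3) ≠ 0 by decide) (show (0 : Fin 3) ≠ 1 by decide)
    (show (2 : Fin 3) ≠ 1 by decide), commutatorElement_def]
  exact mul_mem (mul_mem (mul_mem (h20 _) (hall _)) (inv_mem (h20 _))) (inv_mem (hall _))

/-- One element generates `SL_3` with the cyclic shift. -/
theorem exists_gen_shift [Fintype F] :
    ∃ a : SpecialLinearGroup (Fin 3) F, Subgroup.closure {a, Pm} = ⊤ := by
  by_cases h4 : Fintype.card F = 4
  · exact exists_gen_four h4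
  · exact exists_gen_ne_four h4

end CfsgLib.Pres.SLSeven
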