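import Cfsg.Agent.Lib.Pres.SL3ShortWords

/-!
Generators of the block `SL_2` and of `SL_3` used for a presentation of `SL_n` on seven generators.
-/

set_option autoImplicit false

namespace CfsgLib.Pres.SLSeven

open Matrix Equiv
open CfsgLib.Pres.SL3Short (Nm Nm_tv Cm Cm_val)
open scoped commutatorElement

variable {F : Type*} [Field F]

/-- relabelling the coordinates -/
def θ (π : Perm (Fin 3)) : SpecialLinearGroup (Fin 3) F →* SpecialLinearGroup (Fin 3) F where
  toFun y := ⟨y.1.submatrix π.symm π.symm, by rw [det_submatrix_equiv_self]; exact y.2⟩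
  map_one' := Subtype.ext (by simp [submatrix_one_equiv])
  map_mul' a b := Subtype.ext (by
    show (a.1 * b.1).submatrix π.symm π.symm = _ * _
    rw [← submatrix_mul_equiv a.1 b.1 π.symm π.symm π.symm])

theorem θ_one (y : SpecialLinearGroup (Fin 3) F) : θ 1 y = y := Subtype.ext (by ext i j; rfl)

theorem θ_mul (π π' : Perm (Fin 3)) (y : SpecialLinearGroup (Fin 3) F) :
    θ (π * π') y = θ π (θ π' y) := Subtype.ext (by ext i j; rfl)

theorem θ_tv (π : Perm (Fin 3)) {i j : Fin 3} (h : i ≠ j) (t : F) :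
    θ π (StSL.tv i j t) = StSL.tv (π i) (π j) t := by
  refine Subtype.ext ?_
  show (StSL.tv i j t).1.submatrix π.symm π.symm = _
  rw [StSL.tv_coe h, StSL.tv_coe (π.injective.ne h)]
  ext a b
  simp only [submatrix_apply, transvection, Matrix.add_apply, one_apply, single_apply,
    π.symm.injective.eq_iff, Equiv.eq_symm_apply]

theorem θ_dg (π : Perm (Fin 3)) (c : Fˣ) (a b : Fin 3) :
    θ π (AltMono.dg c a b) = AltMono.dg c (π a) (π b) := by
  refine Subtype.ext ?_
  show (diagonal (AltMono.χ c a b)).submatrix π.symm π.symm = diagonal (AltMono.χ c (π a) (π b))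
  rw [submatrix_diagonal_equiv]
  congr 1
  funext i
  simp only [Function.comp_apply, AltMono.χ, Equiv.symm_apply_eq]

/-- exchanging the first two coordinates -/
abbrev sw : Perm (Fin 3) := swap 0 1

/-- the cyclic shift of the coordinates -/
abbrev cy : Perm (Fin 3) := swap 0 1 * swap 1 2

theorem perm_cases : ∀ π : Perm (Fin 3),
    π = 1 ∨ π = sw ∨ π = cy ∨ π = cy * sw ∨ π = cy * cy ∨ π = cy * (cy * sw) := by decide

/-- the matrix of the cyclic shift -/
def Pm : SpecialLinearGroup (Fin 3) F :=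
  AltMono.μ ⟨cy, by rw [Perm.mem_alternatingGroup]; decide⟩

theorem Pm_three : (Pm : SpecialLinearGroup (Fin 3) F) * Pm * Pm = 1 := by
  rw [Pm, ← map_mul, ← map_mul, show ∀ h : cy ∈ alternatingGroup (Fin 3),
    (⟨cy, h⟩ : alternatingGroup (Fin 3)) * ⟨cy, h⟩ * ⟨cy, h⟩ = 1 from
      fun _ => Subtype.ext (by decide : cy * cy * cy = (1 : Perm (Fin 3))), map_one]

theorem Pm_tv {i j : Fin 3} (h : i ≠ j) (t : F) :
    Pm * StSL.tv i j t * Pm⁻¹ = StSL.tv (cy i) (cy j) t := AltMono.μ_tv _ h t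

theorem closure_tv :
    Subgroup.closure {y | ∃ (i j : Fin 3) (t : F), i ≠ j ∧ y = StSL.tv i j t} =
      (⊤ : Subgroup (SpecialLinearGroup (Fin 3) F)) :=
  CfsgLib.Classical.eq_top_of_transvection_mem _ fun i j h t => by
    rw [← StSL.tv_eq h]
    exact Subgroup.subset_closure ⟨i, j, t, h, rfl⟩

theorem θ_cy (y : SpecialLinearGroup (Fin 3) F) : θ cy y = Pm * y * Pm⁻¹ := by
  have h : (θ cy).eqLocus (MulAut.conj (Pm (F := F))).toMonoidHom = ⊤ := by
    rw [eq_top_iff, ← closure_tv, Subgroup.closure_le]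
    rintro _ ⟨i, j, t, hij, rfl⟩
    show θ cy (StSL.tv i j t) = Pm * StSL.tv i j t * Pm⁻¹
    rw [θ_tv _ hij, Pm_tv hij]
  exact h.ge (Subgroup.mem_top y)

/-- the `SL_2` of the first two coordinates -/
def L2 (F : Type*) [Field F] : Subgroup (SpecialLinearGroup (Fin 3) F) :=
  Subgroup.closure {y | ∃ t : F, y = StSL.tv 0 1 t ∨ y = StSL.tv 1 0 t}

theorem tv01_mem (t : F) : StSL.tv 0 1 t ∈ L2 F := Subgroup.subset_closure ⟨t, Or.inl rfl⟩

theorem tv10_mem (t : F) : StSL.tv 1 0 t ∈ L2 F := Subgroup.subset_closure ⟨t, Or.inr rfl⟩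

theorem θ_sw_mem {y : SpecialLinearGroup (Fin 3) F} (hy : y ∈ L2 F) : θ sw y ∈ L2 F := by
  have h : L2 F ≤ (L2 F).comap (θ sw) := by
    rw [L2, Subgroup.closure_le]
    rintro _ ⟨t, rfl | rfl⟩
    · rw [SetLike.mem_coe, Subgroup.mem_comap, θ_tv _ (by decide)]
      exact tv10_mem t
    · rw [SetLike.mem_coe, Subgroup.mem_comap, θ_tv _ (by decide)]
      exact tv01_mem t
  exact h hy

theorem Nm_mem : (Nm : SpecialLinearGroup (Fin 3) F) ∈ L2 F :=
  mul_mem (mul_mem (tv01_mem 1) (tv10_mem (-1))) (tv01_mem 1)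

theorem dg01_mem (c : Fˣ) : AltMono.dg c 0 1 ∈ L2 F := by
  rw [← SL3Short.Hm_eq]
  exact mul_mem (mul_mem (mul_mem (tv01_mem _) (tv10_mem _)) (tv01_mem _)) (inv_mem Nm_mem)

variable [Fintype F]

theorem orderOf_gen {ω : Fˣ} (hω : ∀ u : Fˣ, ∃ i : ℕ, ω ^ i = u) :
    orderOf ω = Fintype.card F - 1 := by
  classical
  rw [orderOf_eq_card_of_forall_mem_zpowers fun c => by
    obtain ⟨i, rfl⟩ := hω c
    exact Subgroup.npow_mem_zpowers ω i, Nat.card_units, Nat.card_eq_fintype_card]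

/-- A torus element and one more element generate the block, on at least four elements. -/
theorem pair_gen (h4 : 4 ≤ Fintype.card F) {ω : Fˣ} (hω : ∀ u : Fˣ, ∃ i : ℕ, ω ^ i = u) :
    L2 F ≤ Subgroup.closure {AltMono.dg ω 0 1, StSL.tv 0 1 1 * Nm} := by
  classical
  set S := Subgroup.closure ({AltMono.dg ω 0 1, StSL.tv 0 1 1 * Nm} :
    Set (SpecialLinearGroup (Fin 3) F))
  have hh : AltMono.dg ω 0 1 ∈ S := Subgroup.subset_closure (Set.mem_insert _ _)
  have hB : StSL.tv 0 1 (1 : F) * Nm ∈ S := Subgroup.subset_closure (Set.mem_insert_of_mem _ rfl)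
  have R := StSL.rel_tv (K := F) (n := 3)
  have conjh : ∀ t : F, AltMono.dg ω 0 1 * StSL.tv 0 1 t * (AltMono.dg ω 0 1)⁻¹ =
      StSL.tv 0 1 ((ω : F) * ω * t) := fun t => by
    rw [AltMono.dg_tv _ _ _ (show (0 : Fin 3) ≠ 1 by decide)]
    congr 1
    simp [AltMono.χ]
  set c : F := (ω : F) * ω - 1 with hc
  have hc0 : c ≠ 0 := fun e => by
    have h2 : ω ^ 2 = 1 := Units.ext (by
      rw [Units.val_pow_eq_pow_val, pow_two, Units.val_one]; linear_combination e)
    have := Nat.le_of_dvd (by norm_num) (orderOf_dvd_of_pow_eq_one h2)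
    rw [orderOf_gen hω] at this
    omega
  have hcS : StSL.tv 0 1 c ∈ S := by
    have key : AltMono.dg ω 0 1 * ((StSL.tv 0 1 1 * Nm) * AltMono.dg ω 0 1 *
        (StSL.tv 0 1 1 * Nm)⁻¹) = StSL.tv 0 1 c := by
      rw [show StSL.tv 0 1 (1 : F) * Nm * AltMono.dg ω 0 1 * (StSL.tv 0 1 1 * Nm)⁻¹ =
        StSL.tv 0 1 1 * (Nm * AltMono.dg ω 0 1 * Nm⁻¹) * (StSL.tv 0 1 1)⁻¹ by group,
        SL3Short.Nm_dg01, ← AltMono.dg_inv ω (show (0 : Fin 3) ≠ 1 by decide),
        show AltMono.dg ω 0 1 * (StSL.tv 0 1 (1 : F) * (AltMono.dg ω 0 1)⁻¹ * (StSL.tv 0 1 1)⁻¹) =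
          AltMono.dg ω 0 1 * StSL.tv 0 1 (1 : F) * (AltMono.dg ω 0 1)⁻¹ * (StSL.tv 0 1 1)⁻¹ by group,
        conjh, ← eq_mul_inv_iff_mul_eq.2 (show StSL.tv (0 : Fin 3) 1 c * StSL.tv 0 1 1 =
          StSL.tv 0 1 ((ω : F) * ω * 1) by rw [R.add (by decide), hc]; congr 1; ring)]
    rw [← key]
    exact mul_mem hh (mul_mem (mul_mem hB hh) (inv_mem hB))
  let T : AddSubgroup F :=
    { carrier := {t | StSL.tv 0 1 t ∈ S}
      zero_mem' := by
        show StSL.tv 0 1 (0 : F) ∈ S
        rw [R.zero (by decide)]; exact one_mem _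
      add_mem' := fun {t u} ht hu => by
        show StSL.tv 0 1 (t + u) ∈ S
        rw [← R.add (by decide)]; exact mul_mem ht hu
      neg_mem' := fun {t} ht => by
        show StSL.tv 0 1 (-t) ∈ S
        rw [show StSL.tv (0 : Fin 3) 1 (-t) = (StSL.tv 0 1 t)⁻¹ from eq_inv_of_mul_eq_one_left (by
          rw [R.add (by decide), neg_add_cancel, R.zero (by decide)])]
        exact inv_mem ht }
  have hsq : ∀ t : F, t * t * c ∈ T := fun t => by
    rcases eq_or_ne t 0 with rfl | ht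
    · rw [mul_zero, zero_mul]; exact T.zero_mem
    obtain ⟨i, hi⟩ := hω (Units.mk0 t ht)
    rw [show t = (ω : F) ^ i by simpa using (congrArg Units.val hi).symm]
    clear hi
    induction i with
    | zero => simpa [T] using hcS
    | succ i ih =>
      show StSL.tv 0 1 _ ∈ S
      rw [show (ω : F) ^ (i + 1) * (ω : F) ^ (i + 1) * c =
        (ω : F) * ω * ((ω : F) ^ i * (ω : F) ^ i * c) by ring, ← conjh]
      exact mul_mem (mul_mem hh ih) (inv_mem hh)
  have hall : ∀ t : F, t ∈ T := fun t => by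
    by_cases h2 : ringChar F = 2
    · obtain ⟨r, hr⟩ := FiniteField.isSquare_of_char_two h2 (t / c)
      have := hsq r
      rwa [← hr, div_mul_cancel₀ t hc0] at this
    · have h4' : (4 : F) ≠ 0 := by
        rw [show (4 : F) = 2 * 2 by norm_num]
        exact mul_ne_zero (Ring.two_ne_zero h2) (Ring.two_ne_zero h2)
      have := sub_mem (hsq (t / (4 * c) + 1)) (hsq (t / (4 * c) - 1))
      rwa [show (t / (4 * c) + 1) * (t / (4 * c) + 1) * c - (t / (4 * c) - 1) * (t / (4 * c) - 1) * c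
        = t by field_simp; ring] at this
  have hN : (Nm : SpecialLinearGroup (Fin 3) F) ∈ S := by
    have h1 : StSL.tv 0 1 (1 : F) ∈ S := hall 1
    have := mul_mem (inv_mem h1) hB
    rwa [inv_mul_cancel_left] at this
  rw [L2, Subgroup.closure_le]
  rintro _ ⟨t, rfl | rfl⟩
  · exact hall t
  · have h1 : StSL.tv 0 1 (-t) ∈ S := hall (-t)
    have := mul_mem (mul_mem hN h1) (inv_mem hN)
    rwa [Nm_tv, neg_neg] at this

/-- Two opposite root elements generate the block, on at most three elements. -/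
theorem small_gen (h4 : Fintype.card F < 4) :
    L2 F ≤ Subgroup.closure {StSL.tv 0 1 1, StSL.tv 1 0 1} := by
  have R := StSL.rel_tv (K := F) (n := 3)
  have hall : ∀ t : F, ∃ k : ℕ, (k : F) = t := by
    classical
    obtain ⟨p, hp⟩ := CharP.exists F
    obtain ⟨e, hpp, he⟩ := FiniteField.card F p
    have hcard : Fintype.card F = p := by
      have h2 := hpp.two_le
      rcases Nat.lt_or_ge (e : ℕ) 2 with h | h
      · rw [he, show (e : ℕ) = 1 by have := e.pos; omega, pow_one]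
      · exfalso
        have : 2 ^ 2 ≤ p ^ (e : ℕ) :=
          le_trans (Nat.pow_le_pow_left h2 2) (Nat.pow_le_pow_right (by omega) h)
        omega
    have : Fact p.Prime := ⟨hpp⟩
    have hb : Function.Bijective (ZMod.castHom (dvd_refl p) F) := by
      rw [Fintype.bijective_iff_injective_and_card]
      exact ⟨(ZMod.castHom (dvd_refl p) F).injective, by rw [ZMod.card, hcard]⟩
    intro t
    obtain ⟨z, rfl⟩ := hb.2 t
    exact ⟨z.val, by rw [← map_natCast (ZMod.castHom (dvd_refl p) F), ZMod.natCast_zmod_val]⟩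
  have hpow : ∀ {i j : Fin 3}, i ≠ j → ∀ k : ℕ, StSL.tv i j (k : F) = StSL.tv i j 1 ^ k := by
    intro i j h k
    induction k with
    | zero => rw [Nat.cast_zero, R.zero h, pow_zero]
    | succ k ih => rw [Nat.cast_succ, ← R.add h, ih, pow_succ]
  rw [L2, Subgroup.closure_le]
  rintro _ ⟨t, rfl | rfl⟩ <;> obtain ⟨k, rfl⟩ := hall t <;> rw [SetLike.mem_coe, hpow (by decide)]
  · exact pow_mem (Subgroup.subset_closure (Set.mem_insert _ _)) k
  · exact pow_mem (Subgroup.subset_closure (k := {StSL.tv (0 : Fin 3) 1 (1 : F), StSL.tv 1 0 1})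
      (Set.mem_insert_of_mem _ (Set.mem_singleton _))) k

end CfsgLib.Pres.SLSeven
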