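import Cfsg.Agent.Lib.Pres.SLSeven.Gens
import Cfsg.Agent.Lib.Pres.SLData
import Cfsg.Agent.Lib.Pres.ShortAlt.Tools

/-!
An alternating group and an `SL_3` glued along a block give a homomorphism on `SL_n`.
-/

set_option autoImplicit false

namespace CfsgLib.Pres.SLSeven

open Matrix Equiv
open CfsgLib.Pres.SLData (K act P0 P1 P2 P3 act_mul act_inv act_inj exists_two exists_three
  exists_four mv mv_spec)
open scoped commutatorElement

variable {m : ℕ}

/-- the first three indices -/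
def e3 (m : ℕ) (i : Fin 3) : Fin (m + 4) := Fin.castLE (by omega) i

theorem e3_inj : Function.Injective (e3 m) := Fin.castLE_injective (by omega)

theorem e3_zero : e3 m 0 = P0 := rfl
theorem e3_one : e3 m 1 = P1 := rfl
theorem e3_two : e3 m 2 = P2 := rfl

theorem P_ne : (P0 : Fin (m + 4)) ≠ P1 ∧ (P0 : Fin (m + 4)) ≠ P2 ∧ (P0 : Fin (m + 4)) ≠ P3 ∧
    (P1 : Fin (m + 4)) ≠ P2 ∧ (P1 : Fin (m + 4)) ≠ P3 ∧ (P2 : Fin (m + 4)) ≠ P3 := by
  simp [Fin.ext_iff]

theorem sign_pair {α : Type*} [DecidableEq α] [Fintype α] {a b c d : α} (h : a ≠ b) (h' : c ≠ d) :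
    swap a b * swap c d ∈ alternatingGroup α := by
  rw [Perm.mem_alternatingGroup, map_mul, Perm.sign_swap h, Perm.sign_swap h']; rfl

/-- the three-cycle of the first three indices -/
def k3 (m : ℕ) : K m := ⟨swap P0 P1 * swap P1 P2, sign_pair P_ne.1 P_ne.2.2.2.1⟩

/-- the double transposition exchanging the first two indices -/
def k01 (m : ℕ) : K m := ⟨swap P0 P1 * swap P2 P3, sign_pair P_ne.1 P_ne.2.2.2.2.2⟩

/-- a three-cycle fixing the first index -/
def k123 (m : ℕ) : K m :=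
  ⟨swap P1 P2 * swap P2 P3, sign_pair P_ne.2.2.2.1 P_ne.2.2.2.2.2⟩

theorem k3_e3 (i : Fin 3) : act (k3 m) (e3 m i) = e3 m (cy i) := by
  obtain ⟨n01, n02, -, n12, -, -⟩ := P_ne (m := m)
  show (swap P0 P1 * swap P1 P2 : Perm (Fin (m + 4))) (e3 m i) = _
  fin_cases i
  · show (swap P0 P1 * swap P1 P2 : Perm (Fin (m + 4))) P0 = P1
    rw [Perm.mul_apply, swap_apply_of_ne_of_ne n01 n02, swap_apply_left]
  · show (swap P0 P1 * swap P1 P2 : Perm (Fin (m + 4))) P1 = P2
    rw [Perm.mul_apply, swap_apply_left, swap_apply_of_ne_of_ne n02.symm n12.symm]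
  · show (swap P0 P1 * swap P1 P2 : Perm (Fin (m + 4))) P2 = P0
    rw [Perm.mul_apply, swap_apply_right, swap_apply_right]

theorem k01_act : act (k01 m) P0 = P1 ∧ act (k01 m) P1 = P0 ∧ act (k01 m) P2 = P3 := by
  obtain ⟨n01, n02, n03, n12, n13, n23⟩ := P_ne (m := m)
  refine ⟨?_, ?_, ?_⟩ <;> show (swap P0 P1 * swap P2 P3 : Perm (Fin (m + 4))) _ = _ <;>
    rw [Perm.mul_apply]
  · rw [swap_apply_of_ne_of_ne n02 n03, swap_apply_left]
  · rw [swap_apply_of_ne_of_ne n12 n13, swap_apply_right]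
  · rw [swap_apply_left, swap_apply_of_ne_of_ne n03.symm n13.symm]

theorem k123_act : act (k123 m) P0 = P0 ∧ act (k123 m) P1 = P2 ∧ act (k123 m) P2 = P3 := by
  obtain ⟨n01, n02, n03, n12, n13, n23⟩ := P_ne (m := m)
  refine ⟨?_, ?_, ?_⟩ <;> show (swap P1 P2 * swap P2 P3 : Perm (Fin (m + 4))) _ = _ <;>
    rw [Perm.mul_apply]
  · rw [swap_apply_of_ne_of_ne n02 n03, swap_apply_of_ne_of_ne n01 n02]
  · rw [swap_apply_of_ne_of_ne n12 n13, swap_apply_left]
  · rw [swap_apply_left, swap_apply_of_ne_of_ne n13.symm n23.symm]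

theorem exists_triple {i j l : Fin (m + 4)} (h : [i, j, l].Nodup) :
    ∃ (σ : K m) (π : Perm (Fin 3)), act σ (e3 m (π 0)) = i ∧ act σ (e3 m (π 1)) = j ∧
      act σ (e3 m (π 2)) = l := by
  obtain ⟨n01, n02, -, n12, -, -⟩ := P_ne (m := m)
  obtain ⟨σ, hσ⟩ := exists_three (p := (P0 : Fin (m + 4))) (q := P1) (r := P2) (u := P0) (v := P1)
    (by simp [P_ne]) h n01
  rcases hσ with ⟨a, b, c⟩ | ⟨a, b, c⟩
  · refine ⟨σ, sw, ?_, ?_, ?_⟩
    · rw [swap_apply_left] at a; exact a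
    · rw [swap_apply_right] at b; exact b
    · rw [swap_apply_of_ne_of_ne n02.symm n12.symm] at c; exact c
  · exact ⟨σ, 1, a, b, c⟩

theorem exists_pair3 : ∀ a b : Fin 3, a ≠ b → ∃ ρ : Perm (Fin 3), ρ 0 = a ∧ ρ 1 = b := by decide

/-- The hypotheses of the glueing. -/
structure Glue (F : Type*) [Field F] (m : ℕ) (X : Type*) [Group X] where
  ψ : K m →* X
  φ : SpecialLinearGroup (Fin 3) F →* X
  hc : ψ (k3 m) = φ Pm
  fix : ∀ σ : K m, act σ P0 = P0 → act σ P1 = P1 → ∀ y ∈ L2 F, Commute (ψ σ) (φ y)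
  flip : ∀ y ∈ L2 F, ψ (k01 m) * φ y * (ψ (k01 m))⁻¹ = φ (θ sw y)

namespace Glue

variable {F : Type*} [Field F] {X : Type*} [Group X] (G : Glue F m X)

/-- the conjugates of the block -/
noncomputable def E (a b : Fin (m + 4)) (y : SpecialLinearGroup (Fin 3) F) : X :=
  G.ψ (mv P0 P1 a b) * G.φ y * (G.ψ (mv P0 P1 a b))⁻¹

theorem E_eq {a b : Fin (m + 4)} (hab : a ≠ b) {σ : K m} (h0 : act σ P0 = a) (h1 : act σ P1 = b)
    {y : SpecialLinearGroup (Fin 3) F} (hy : y ∈ L2 F) :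
    G.ψ σ * G.φ y * (G.ψ σ)⁻¹ = G.E a b y := by
  obtain ⟨u0, u1⟩ := mv_spec (m := m) P_ne.1 hab
  set u := mv P0 P1 a b
  have key := G.fix (u⁻¹ * σ) (by rw [act_mul, h0, act_inv u0]) (by rw [act_mul, h1, act_inv u1]) y hy
  rw [E, show G.ψ σ = G.ψ u * G.ψ (u⁻¹ * σ) by rw [← map_mul, mul_inv_cancel_left],
    mul_assoc (G.ψ u), key.eq]
  simp only [u]; group

theorem conj_E (σ : K m) {a b : Fin (m + 4)} (hab : a ≠ b) {y : SpecialLinearGroup (Fin 3) F}
    (hy : y ∈ L2 F) : G.ψ σ * G.E a b y * (G.ψ σ)⁻¹ = G.E (act σ a) (act σ b) y := by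
  obtain ⟨u0, u1⟩ := mv_spec (m := m) P_ne.1 hab
  rw [← G.E_eq (fun e => hab (act_inj σ e)) (σ := σ * mv P0 P1 a b) (by rw [act_mul, u0])
    (by rw [act_mul, u1]) hy, E, map_mul]
  group

theorem E_mul {a b : Fin (m + 4)} (y z : SpecialLinearGroup (Fin 3) F) :
    G.E a b (y * z) = G.E a b y * G.E a b z := by
  simp only [E, map_mul]; group

theorem phi_eq : ∀ π : Perm (Fin 3), ∀ y ∈ L2 F,
    G.φ (θ π y) = G.E (e3 m (π 0)) (e3 m (π 1)) y := by
  let P : Perm (Fin 3) → Prop := fun π => ∀ y ∈ L2 F,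
    G.φ (θ π y) = G.E (e3 m (π 0)) (e3 m (π 1)) y
  have h1 : P 1 := fun y hy => by
    rw [θ_one]
    show G.φ y = G.E P0 P1 y
    rw [← G.E_eq P_ne.1 (σ := 1) rfl rfl hy, map_one, one_mul, inv_one, mul_one]
  have hsw : P sw := fun y hy => by
    rw [← G.flip y hy, G.E_eq P_ne.1.symm k01_act.1 k01_act.2.1 hy]
    rfl
  have hstep : ∀ π, P π → P (cy * π) := fun π hπ y hy => by
    rw [θ_mul, θ_cy, map_mul, map_mul, map_inv, ← G.hc, hπ y hy,
      G.conj_E _ (e3_inj.ne (π.injective.ne (by decide))) hy, k3_e3, k3_e3]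
    rfl
  intro π
  rcases perm_cases π with rfl | rfl | rfl | rfl | rfl | rfl
  · exact h1
  · exact hsw
  · have := hstep 1 h1; rwa [mul_one] at this
  · exact hstep _ hsw
  · have := hstep 1 h1; rw [mul_one] at this
    exact hstep _ this
  · exact hstep _ (hstep _ hsw)

theorem E_triple (σ : K m) (π : Perm (Fin 3)) {y : SpecialLinearGroup (Fin 3) F} (hy : y ∈ L2 F) :
    G.E (act σ (e3 m (π 0))) (act σ (e3 m (π 1))) y =
      G.ψ σ * G.φ (θ π y) * (G.ψ σ)⁻¹ := by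
  rw [G.phi_eq π y hy, G.conj_E _ (e3_inj.ne (π.injective.ne (by decide))) hy]

/-- the root elements -/
noncomputable def x (i j : Fin (m + 4)) (t : F) : X := G.E i j (StSL.tv 0 1 t)

/-- the copy of `SL_3` at a triple -/
def Λ (σ : K m) : SpecialLinearGroup (Fin 3) F →* X :=
  (MulAut.conj (G.ψ σ)).toMonoidHom.comp G.φ

theorem x_triple (σ : K m) {a b : Fin 3} (hab : a ≠ b) (t : F) :
    G.x (act σ (e3 m a)) (act σ (e3 m b)) t = G.Λ σ (StSL.tv a b t) := by
  obtain ⟨ρ, rfl, rfl⟩ := exists_pair3 a b hab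
  rw [x, G.E_triple σ ρ (tv01_mem t), θ_tv _ (show (0 : Fin 3) ≠ 1 by decide)]
  rfl

theorem x_block {a b : Fin 3} (hab : a ≠ b) (t : F) :
    G.x (e3 m a) (e3 m b) t = G.φ (StSL.tv a b t) := by
  have h := G.x_triple 1 hab t
  simp only [Λ, map_one, MonoidHom.comp_apply, MulEquiv.coe_toMonoidHom] at h
  exact h

theorem x01 (t : F) : G.x P0 P1 t = G.φ (StSL.tv 0 1 t) := G.x_block (a := 0) (b := 1) (by decide) t

theorem x10 (t : F) : G.x P1 P0 t = G.φ (StSL.tv 1 0 t) := G.x_block (a := 1) (b := 0) (by decide) t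

theorem conj_x (σ : K m) {i j : Fin (m + 4)} (hij : i ≠ j) (t : F) :
    G.ψ σ * G.x i j t * (G.ψ σ)⁻¹ = G.x (act σ i) (act σ j) t := G.conj_E σ hij (tv01_mem t)

/-- The block commutes with the torus of the opposite pair. -/
theorem torus (ω : Fˣ) : ∀ y ∈ L2 F, Commute (G.φ y) (G.E P2 P3 (AltMono.dg ω 0 1)) := by
  obtain ⟨a0, a1, a2⟩ := k123_act (m := m)
  obtain ⟨b0, b1, b2⟩ := k01_act (m := m)
  have hd := dg01_mem (F := F) ω
  -- the two factors
  have f20 : G.E P2 P0 (AltMono.dg ω 0 1) = G.Λ (k123 m) (AltMono.dg ω 1 0) := by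
    have := G.E_triple (k123 m) sw hd
    rw [show act (k123 m) (e3 m (sw 0)) = P2 from a1, show act (k123 m) (e3 m (sw 1)) = P0 from a0,
      θ_dg] at this
    exact this
  have f03 : G.E P0 P3 (AltMono.dg ω 0 1) = G.Λ (k123 m) (AltMono.dg ω 0 2) := by
    have := G.E_triple (k123 m) (swap 1 2) hd
    rw [show act (k123 m) (e3 m (swap (1 : Fin 3) 2 0)) = P0 from a0,
      show act (k123 m) (e3 m (swap (1 : Fin 3) 2 1)) = P3 from a2, θ_dg] at this
    exact this
  have f23 : G.E P2 P3 (AltMono.dg ω 0 1) = G.Λ (k123 m) (AltMono.dg ω 1 2) := by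
    have := G.E_triple (k123 m) cy hd
    rw [show act (k123 m) (e3 m (cy 0)) = P2 from a1, show act (k123 m) (e3 m (cy 1)) = P3 from a2,
      θ_dg] at this
    exact this
  have hprod : G.E P2 P3 (AltMono.dg ω 0 1) =
      G.E P2 P0 (AltMono.dg ω 0 1) * G.E P0 P3 (AltMono.dg ω 0 1) := by
    rw [f20, f03, f23, ← map_mul, AltMono.dg_mul_dg ω (by decide) (by decide) (by decide)]
  -- each factor as an element of a triple through the block
  have g20 : G.E P2 P0 (AltMono.dg ω 0 1) = G.φ (AltMono.dg ω 2 0) := by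
    have := G.E_triple 1 (cy * cy) hd
    rw [show act (1 : K m) (e3 m ((cy * cy) 0)) = P2 from rfl,
      show act (1 : K m) (e3 m ((cy * cy) 1)) = P0 from rfl, θ_dg, map_one, one_mul, inv_one,
      mul_one] at this
    exact this
  have g03 : G.E P0 P3 (AltMono.dg ω 0 1) = G.Λ (k01 m) (AltMono.dg ω 1 2) := by
    have := G.E_triple (k01 m) cy hd
    rw [show act (k01 m) (e3 m (cy 0)) = P0 from b1, show act (k01 m) (e3 m (cy 1)) = P3 from b2,
      θ_dg] at this
    exact this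
  have l01 : ∀ t : F, G.φ (StSL.tv 0 1 t) = G.Λ (k01 m) (StSL.tv 1 0 t) := fun t => by
    rw [← G.x_triple (k01 m) (show (1 : Fin 3) ≠ 0 by decide),
      show act (k01 m) (e3 m 1) = P0 from b1, show act (k01 m) (e3 m 0) = P1 from b0, G.x01]
  have l10 : ∀ t : F, G.φ (StSL.tv 1 0 t) = G.Λ (k01 m) (StSL.tv 0 1 t) := fun t => by
    rw [← G.x_triple (k01 m) (show (0 : Fin 3) ≠ 1 by decide),
      show act (k01 m) (e3 m 1) = P0 from b1, show act (k01 m) (e3 m 0) = P1 from b0, G.x10]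
  -- the two scalars cancel
  have key : ∀ (i j : Fin 3) (hij : i ≠ j) (t : F), (∀ s : F, G.φ (StSL.tv i j s) =
      G.Λ (k01 m) (StSL.tv j i s)) →
      AltMono.χ ω 2 0 i / AltMono.χ ω 2 0 j * (AltMono.χ ω 1 2 j / AltMono.χ ω 1 2 i * t) = t →
      Commute (G.φ (StSL.tv i j t)) (G.E P2 P3 (AltMono.dg ω 0 1)) := by
    intro i j hij t hl he
    refine Commute.symm (mul_inv_eq_iff_eq_mul.1 ?_)
    rw [hprod, show ∀ A B Y : X, A * B * Y * (A * B)⁻¹ = A * (B * Y * B⁻¹) * A⁻¹ from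
      fun A B Y => by group]
    conv_lhs => enter [1, 2]; rw [g03, hl, ← map_inv, ← map_mul, ← map_mul,
      AltMono.dg_tv _ _ _ hij.symm, ← hl]
    rw [g20, ← map_inv, ← map_mul, ← map_mul, AltMono.dg_tv _ _ _ hij, he]
  intro y hy
  have hw := ω.ne_zero
  induction hy using Subgroup.closure_induction with
  | mem z hz =>
    obtain ⟨t, rfl | rfl⟩ := hz
    · exact key 0 1 (by decide) t l01 (by simp [AltMono.χ])
    · exact key 1 0 (by decide) t l10 (by simp [AltMono.χ])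
  | one => rw [map_one]; exact Commute.one_left _
  | mul a b _ _ ha hb => rw [map_mul]; exact ha.mul_left hb
  | inv a _ ha => rw [map_inv]; exact ha.inv_left

/-- the remaining condition -/
def Disj : Prop := ∀ t v : F,
  Commute (G.φ (StSL.tv 0 1 t)) (G.x P2 P3 v) ∧ Commute (G.φ (StSL.tv 0 1 t)) (G.x P3 P2 v)

theorem rel (hd : G.Disj) : StSL.Rel G.x := by
  have R := StSL.rel_tv (K := F) (n := 3)
  have e0 : ∀ {i j l : Fin (m + 4)}, i ≠ j → j ≠ l → i ≠ l → [i, j, l].Nodup := fun a b c => by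
    simp [a, b, c]
  have hadd : ∀ {i j : Fin (m + 4)}, i ≠ j → ∀ t u : F, G.x i j t * G.x i j u = G.x i j (t + u) :=
    fun {i j} _ t u => by simp only [x]; rw [← E_mul, R.add (by decide)]
  have p01 : ∀ π : Perm (Fin 3), π 0 ≠ π 1 ∧ π 1 ≠ π 2 ∧ π 0 ≠ π 2 := by decide
  refine ⟨fun h t u => hadd h t u, fun {i j k l} hij hkl hil hjk t u => ?_,
    fun {i j l} hij hjl hil t u => ?_⟩
  · by_cases hik : i = k
    · subst hik
      by_cases hjl : j = l
      · subst hjl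
        show _ = _
        rw [hadd hij, hadd hij, add_comm]
      · obtain ⟨σ, π, rfl, rfl, rfl⟩ := exists_triple (e0 hij hjl hil)
        obtain ⟨a, b, c⟩ := p01 π
        rw [G.x_triple σ a, G.x_triple σ c]
        exact (R.comm a c c a.symm t u).map _
    · by_cases hjl : j = l
      · subst hjl
        obtain ⟨σ, π, rfl, rfl, rfl⟩ := exists_triple (e0 hij hjk hik)
        obtain ⟨a, b, c⟩ := p01 π
        rw [G.x_triple σ a, G.x_triple σ b.symm]
        exact (R.comm a b.symm a b t u).map _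
      · obtain ⟨n01, n02, n03, n12, n13, n23⟩ := P_ne (m := m)
        obtain ⟨σ, s0, s1, hs⟩ := exists_four (p := (P0 : Fin (m + 4))) (q := P1) (r := P2) (s := P3)
          (a := i) (b := j) (c := k) (d := l) (by simp [n01, n02, n03, n12, n13, n23])
          (by simp [hij, hik, hil, hjk, hjl, hkl])
        subst s0 s1
        rcases hs with ⟨rfl, rfl⟩ | ⟨rfl, rfl⟩
        · rw [← G.conj_x σ n01, ← G.conj_x σ n23, G.x01]
          exact (hd t u).1.map (MulAut.conj (G.ψ σ)).toMonoidHom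
        · rw [← G.conj_x σ n01, ← G.conj_x σ n23.symm, G.x01]
          exact (hd t u).2.map (MulAut.conj (G.ψ σ)).toMonoidHom
  · obtain ⟨σ, π, rfl, rfl, rfl⟩ := exists_triple (e0 hij hjl hil)
    obtain ⟨a, b, c⟩ := p01 π
    rw [G.x_triple σ a, G.x_triple σ b, G.x_triple σ c, ← map_commutatorElement, R.prod a b c]

end Glue

section block

variable {F : Type*} [Field F] [Finite F]

theorem exists_block (F : Type*) [Field F] [Finite F] (m : ℕ) :
    ∃ φ₀ : SpecialLinearGroup (Fin 3) F →* SpecialLinearGroup (Fin (m + 4)) F,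
      (∀ a b t, a ≠ b → φ₀ (StSL.tv a b t) = StSL.tv (e3 m a) (e3 m b) t) ∧
      φ₀ Pm = AltMono.μ (k3 m) := by
  have R := StSL.rel_tv (K := F) (n := m + 4)
  obtain ⟨φ₀, h⟩ := StSL.exists_hom (K := F) (n := 3) le_rfl
    (x := fun a b t => StSL.tv (e3 m a) (e3 m b) t)
    ⟨fun h => R.add (e3_inj.ne h), fun h h' a b => R.comm (e3_inj.ne h) (e3_inj.ne h')
      (e3_inj.ne a) (e3_inj.ne b), fun h h' a => R.prod (e3_inj.ne h) (e3_inj.ne h') (e3_inj.ne a)⟩
  refine ⟨φ₀, fun a b t hab => h a b hab t, ?_⟩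
  have : Nontrivial (Fin 3) := ⟨⟨0, 1, by decide⟩⟩
  let Good : SpecialLinearGroup (Fin 3) F → Prop := fun y => ∀ v : Fin (m + 4) → F,
    (∀ i, ((φ₀ y).1 *ᵥ v) (e3 m i) = (y.1 *ᵥ (v ∘ e3 m)) i) ∧
      ∀ k, (∀ i, e3 m i ≠ k) → ((φ₀ y).1 *ᵥ v) k = v k
  have hgood : ∀ y, Good y := by
    intro y
    induction y using StSL.sl_induction with
    | htv i j hij t =>
      intro v
      rw [h i j hij t, StSL.tv_mulVec (e3_inj.ne hij)]
      refine ⟨fun a => ?_, fun k hk => by simp [(hk i).symm]⟩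
      rw [StSL.tv_mulVec hij, Pi.add_apply, Pi.add_apply, Function.comp_apply]
      by_cases e : a = i
      · subst e; simp
      · simp [e, e3_inj.ne e]
    | hmul a b ha hb =>
      intro v
      rw [map_mul, StSL.mul_mulVec']
      refine ⟨fun i => ?_, fun k hk => ?_⟩
      · rw [(ha _).1 i, StSL.mul_mulVec']
        congr 1
        funext i'
        exact (hb v).1 i'
      · rw [(ha _).2 k hk, (hb v).2 k hk]
  refine StSL.sl_ext fun v => funext fun k => ?_
  rw [AltMono.μ_mulVec]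
  show _ = v (((k3 m : Perm (Fin (m + 4))))⁻¹ k)
  by_cases hk : ∃ i, e3 m i = k
  · obtain ⟨i, rfl⟩ := hk
    rw [(hgood Pm v).1 i, show (Pm (F := F)).1 *ᵥ (v ∘ e3 m) =
      (v ∘ e3 m) ∘ ⇑((cy⁻¹ : Perm (Fin 3))) from AltMono.μ_mulVec _ _]
    simp only [Function.comp_apply]
    congr 1
    refine (act_inv (σ := k3 m) ?_).symm
    rw [k3_e3]
    simp
  · simp only [not_exists] at hk
    rw [(hgood Pm v).2 k hk]
    congr 1
    refine (act_inv (σ := k3 m) ?_).symm
    show (swap P0 P1 * swap P1 P2 : Perm (Fin (m + 4))) k = k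
    rw [Perm.mul_apply, swap_apply_of_ne_of_ne (show k ≠ P1 from Ne.symm (hk 1)) (show k ≠ P2 from Ne.symm (hk 2)),
      swap_apply_of_ne_of_ne (show k ≠ P0 from Ne.symm (hk 0)) (show k ≠ P1 from Ne.symm (hk 1))]

end block

namespace Glue

variable {F : Type*} [Field F] [Finite F] {X : Type*} [Group X] (G : Glue F m X)

/-- The homomorphism on `SL_n`. -/
theorem exists_hom (hd : G.Disj)
    {φ₀ : SpecialLinearGroup (Fin 3) F →* SpecialLinearGroup (Fin (m + 4)) F}
    (h₀ : ∀ a b t, a ≠ b → φ₀ (StSL.tv a b t) = StSL.tv (e3 m a) (e3 m b) t)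
    (hP : φ₀ Pm = AltMono.μ (k3 m)) :
    ∃ Φ : SpecialLinearGroup (Fin (m + 4)) F →* X,
      (∀ k, Φ (AltMono.μ k) = G.ψ k) ∧ ∀ y, Φ (φ₀ y) = G.φ y := by
  obtain ⟨Φ, hΦ⟩ := StSL.exists_hom (K := F) (n := m + 4) (by omega) (G.rel hd)
  have hφ : ∀ y, Φ (φ₀ y) = G.φ y := fun y => by
    have : (Φ.comp φ₀).eqLocus G.φ = ⊤ := by
      rw [eq_top_iff, ← closure_tv, Subgroup.closure_le]
      rintro _ ⟨i, j, t, hij, rfl⟩
      show Φ (φ₀ _) = G.φ _
      rw [h₀ i j t hij, hΦ _ _ (e3_inj.ne hij), G.x_block hij]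
    exact this.ge (Subgroup.mem_top y)
  refine ⟨Φ, ?_, hφ⟩
  let δ : K m → X := fun k => (Φ (AltMono.μ k))⁻¹ * G.ψ k
  have hconj : ∀ (k : K m) (z : SpecialLinearGroup (Fin (m + 4)) F),
      Commute (δ k) (Φ z) := fun k z => by
    have : Nontrivial (Fin (m + 4)) := ⟨⟨P0, P1, P_ne.1⟩⟩
    induction z using StSL.sl_induction with
    | htv i j hij t =>
      have h1 := G.conj_x k hij t
      have h2 : Φ (AltMono.μ k) * Φ (StSL.tv i j t) * (Φ (AltMono.μ k))⁻¹ =
          G.x (act k i) (act k j) t := by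
        rw [← map_inv, ← map_mul, ← map_mul, AltMono.μ_tv _ hij]
        exact hΦ _ _ (fun e => hij (act_inj k e)) t
      rw [hΦ i j hij] at h2 ⊢
      rw [← h2] at h1
      refine mul_inv_eq_iff_eq_mul.1 ?_
      calc δ k * G.x i j t * (δ k)⁻¹
          = (Φ (AltMono.μ k))⁻¹ * (G.ψ k * G.x i j t * (G.ψ k)⁻¹) * Φ (AltMono.μ k) := by
            simp only [δ]; group
        _ = G.x i j t := by rw [h1]; group
    | hmul a b ha hb => rw [map_mul]; exact ha.mul_right hb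
  let δh : K m →* X :=
    { toFun := δ
      map_one' := by simp [δ]
      map_mul' := fun a b => by
        have e : Commute (δ a) (Φ (AltMono.μ b))⁻¹ := (hconj a _).inv_right
        calc δ (a * b) = (Φ (AltMono.μ b))⁻¹ * δ a * G.ψ b := by
              simp only [δ, map_mul]; group
          _ = δ a * (Φ (AltMono.μ b))⁻¹ * G.ψ b := by rw [← e.eq]
          _ = δ a * δ b := by simp only [δ]; group }
  have h3 : k3 m ∈ δh.ker := by
    show δ (k3 m) = 1
    simp only [δ, ← hP, hφ, G.hc, inv_mul_cancel]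
  have hker : δh.ker = ⊤ := ShortAlt.closure_zc (m := m + 2) (by omega) fun i hi => by
    obtain ⟨σ, π, a, b, c⟩ := exists_triple (m := m)
      (i := Recog.pt (m + 2) 0) (j := Recog.pt (m + 2) 1) (l := Recog.pt (m + 2) (i + 2))
      (by simp [Recog.pt_ne (m + 2) (show 0 < m + 4 by omega) (show 1 < m + 4 by omega) zero_ne_one,
        Recog.pt_ne (m + 2) (show 0 < m + 4 by omega) (show i + 2 < m + 4 by omega) (by omega),
        Recog.pt_ne (m + 2) (show 1 < m + 4 by omega) (show i + 2 < m + 4 by omega) (by omega)])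
    have hs : σ * k3 m * σ⁻¹ ∈ δh.ker := δh.normal_ker.conj_mem _ h3 σ
    have hval : (σ * k3 m * σ⁻¹ : K m).1 =
        swap (act σ (e3 m 0)) (act σ (e3 m 1)) * swap (act σ (e3 m 1)) (act σ (e3 m 2)) := by
      show (σ : Perm (Fin (m + 4))) * (swap P0 P1 * swap P1 P2) * (σ : Perm (Fin (m + 4)))⁻¹ = _
      rw [act, act, act, e3_zero, e3_one, e3_two, swap_apply_apply, swap_apply_apply]
      group
    have hd3 : ∀ π : Perm (Fin 3),
        swap (π 0) (π 1) * swap (π 1) (π 2) = swap 0 1 * swap 1 2 ∨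
          (swap (π 0) (π 1) * swap (π 1) (π 2))⁻¹ = swap 0 1 * swap 1 2 := by decide
    let ee : Fin 3 ↪ Fin (m + 4) := ⟨fun k => act σ (e3 m k), fun p r h => e3_inj (act_inj σ h)⟩
    have hv : ∀ p r : Fin 3, Perm.viaEmbeddingHom ee (swap p r) =
        swap (act σ (e3 m p)) (act σ (e3 m r)) := fun p r => SymAll.via_swap ee p r
    rcases hd3 π with e | e
    · have e' := congrArg (Perm.viaEmbeddingHom ee) e
      rw [map_mul, map_mul, hv, hv, hv, hv, a, b, c, ← hval] at e'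
      convert hs using 1
      exact Subtype.ext e'
    · have e' := congrArg (Perm.viaEmbeddingHom ee) e
      rw [map_inv, map_mul, map_mul, hv, hv, hv, hv, a, b, c, ← hval] at e'
      convert inv_mem hs using 1
      refine Subtype.ext ?_
      rw [InvMemClass.coe_inv, ← e', inv_inv]
      rfl
  intro k
  have := hker.ge (Subgroup.mem_top k)
  exact inv_mul_eq_one.1 this

end Glue

end CfsgLib.Pres.SLSeven
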