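import Cfsg.Agent.Lib.Pres.SLSeven.Cases
import Cfsg.Agent.Lib.Pres.ShortAlt.Main
import Cfsg.Agent.Lib.Recog.PresentationsFive

/-!
`SL_n`, `n ≥ 4`, on at most seven generators and twenty-five relations.
-/

set_option autoImplicit false

namespace CfsgLib.Pres.SLSeven

open Matrix Equiv
open CfsgLib.Pres.SL3Short (Cm Cm_val)
open CfsgLib.Pres.SLData (K)

variable (F : Type*) [Field F] [Fintype F]

/-- conjugation by a diagonal sign -/
def flipSign : SpecialLinearGroup (Fin 3) F ≃* SpecialLinearGroup (Fin 3) F where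
  toFun y := ⟨diagonal ![1, -1, 1] * y.1 * diagonal ![1, -1, 1], by
    simp [det_diagonal, Fin.prod_univ_three, y.2]⟩
  invFun y := ⟨diagonal ![1, -1, 1] * y.1 * diagonal ![1, -1, 1], by
    simp [det_diagonal, Fin.prod_univ_three, y.2]⟩
  left_inv y := Subtype.ext (by
    ext i j; fin_cases i <;> fin_cases j <;>
      simp [Matrix.mul_apply, Fin.sum_univ_three])
  right_inv y := Subtype.ext (by
    ext i j; fin_cases i <;> fin_cases j <;>
      simp [Matrix.mul_apply, Fin.sum_univ_three])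
  map_mul' a b := Subtype.ext (by
    have hD : (diagonal ![1, -1, 1] : Matrix (Fin 3) (Fin 3) F) * diagonal ![1, -1, 1] = 1 := by
      ext i j; fin_cases i <;> fin_cases j <;> simp [Matrix.mul_apply, Fin.sum_univ_three]
    show diagonal ![1, -1, 1] * (a.1 * b.1) * diagonal ![1, -1, 1] =
      diagonal ![1, -1, 1] * a.1 * diagonal ![1, -1, 1] *
        (diagonal ![1, -1, 1] * b.1 * diagonal ![1, -1, 1])
    simp only [mul_assoc]
    rw [← mul_assoc (diagonal ![1, -1, 1]) (diagonal ![1, -1, 1]), hD, one_mul])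

theorem flipSign_Cm : flipSign F Cm = Pm := by
  refine Subtype.ext ?_
  show diagonal ![1, -1, 1] * (Cm (F := F)).1 * diagonal ![1, -1, 1] = (cy⁻¹ : Perm (Fin 3)).permMatrix F
  rw [Cm_val]
  ext i j
  fin_cases i <;> fin_cases j <;>
    simp [Matrix.mul_apply, Fin.sum_univ_three, Equiv.Perm.permMatrix, swap_apply_def]

variable {F}

theorem sl3_cyclic : ∃ (f : Fin 4 → SpecialLinearGroup (Fin 3) F) (L : List (FreeGroup (Fin 4))),
    L.length ≤ 13 ∧ f 3 = Pm ∧ (∀ w ∈ L, FreeGroup.lift f w = 1) ∧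
      Subgroup.closure (Set.range f) = ⊤ ∧
      ∀ (X : Type) [Group X] (x : Fin 4 → X), (∀ w ∈ L, FreeGroup.lift x w = 1) →
        x 3 * x 3 * x 3 = 1 → ∃ φ : SpecialLinearGroup (Fin 3) F →* X, ∀ i, φ (f i) = x i := by
  obtain ⟨f, L, hL, h3, hhold, hgen, huniv⟩ := SL3Short.presData_cyclic (F := F)
  refine ⟨fun i => flipSign F (f i), L, hL, by show flipSign F (f 3) = Pm; rw [h3, flipSign_Cm], fun w hw => ?_, ?_,
    fun X _ x hx hx3 => ?_⟩
  · have : FreeGroup.lift (fun i => flipSign F (f i)) w = flipSign F (FreeGroup.lift f w) :=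
      DFunLike.congr_fun (FreeGroup.ext_hom _ ((flipSign F).toMonoidHom.comp (FreeGroup.lift f))
        fun i => by simp) w
    rw [this, hhold w hw, map_one]
  · rw [Set.range_comp', ← MulEquiv.coe_toMonoidHom, ← MonoidHom.map_closure, hgen,
      Subgroup.map_top_of_surjective _ (flipSign F).surjective]
  · obtain ⟨φ, hφ⟩ := huniv X x hx hx3
    exact ⟨φ.comp (flipSign F).symm.toMonoidHom, fun i => by simp [hφ]⟩

theorem k3_three (m : ℕ) : k3 m * k3 m * k3 m = 1 := by
  obtain ⟨n01, n02, -, n12, -, -⟩ := P_ne (m := m)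
  refine Subtype.ext (Equiv.ext fun k => ?_)
  show ((swap SLData.P0 SLData.P1 * swap SLData.P1 SLData.P2) *
    (swap SLData.P0 SLData.P1 * swap SLData.P1 SLData.P2) *
    (swap SLData.P0 SLData.P1 * swap SLData.P1 SLData.P2) : Perm (Fin (m + 4))) k = k
  simp only [Perm.mul_apply]
  by_cases h0 : k = SLData.P0 <;> by_cases h1 : k = SLData.P1 <;> by_cases h2 : k = SLData.P2 <;>
    simp [swap_apply_def, *] <;> grind

theorem lift_inl {Y : Type*} [Group Y] {ι κ : Type} (x : ι ⊕ κ → Y) (w : FreeGroup ι) :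
    FreeGroup.lift x (FreeGroup.lift (fun i => FreeGroup.of (Sum.inl i)) w) =
      FreeGroup.lift (fun i => x (Sum.inl i)) w :=
  DFunLike.congr_fun (FreeGroup.ext_hom ((FreeGroup.lift x).comp
    (FreeGroup.lift fun i => FreeGroup.of (Sum.inl i)))
      (FreeGroup.lift fun i => x (Sum.inl i)) fun i => by simp) w

set_option maxHeartbeats 1000000 in
/-- The combined presentation. -/
theorem presData_sl (F : Type*) [Field F] [Fintype F] (m : ℕ) {ι : Type} {fK : ι → K m}
    {LK : List (FreeGroup ι)} (hK : PresData fK LK) :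
    ∃ (f : ι ⊕ Fin 3 → SpecialLinearGroup (Fin (m + 4)) F) (L : List (FreeGroup (ι ⊕ Fin 3))),
      L.length ≤ LK.length + 13 + nGlue m ∧ PresData f L := by
  classical
  obtain ⟨φ₀, h₀, hP⟩ := exists_block F m
  obtain ⟨f3, L3, hL3, hf3, hhold3, hgen3, huniv3⟩ := sl3_cyclic (F := F)
  obtain ⟨LG, hLG, hholdG, hunivG⟩ := exists_glue F m h₀
  choose wK hwK using exists_word hK.2.1
  choose w3 hw3 using exists_word hgen3
  let σw : FreeGroup ι →* FreeGroup (ι ⊕ Fin 3) :=
    FreeGroup.lift fun i => FreeGroup.of (Sum.inl i)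
  let τw : FreeGroup (Fin 4) →* FreeGroup (ι ⊕ Fin 3) :=
    FreeGroup.lift (Fin.lastCases (σw (wK (k3 m))) fun j => FreeGroup.of (Sum.inr j))
  let sub : Wd F m →* FreeGroup (ι ⊕ Fin 3) :=
    FreeGroup.lift (Sum.elim (fun k => σw (wK k)) fun y => τw (w3 y))
  let f : ι ⊕ Fin 3 → SpecialLinearGroup (Fin (m + 4)) F :=
    Sum.elim (fun i => AltMono.μ (fK i)) fun j => φ₀ (f3 j.castSucc)
  -- the values in `SL_n`
  have hσ : ∀ w, FreeGroup.lift f (σw w) = AltMono.μ (FreeGroup.lift fK w) := fun w => by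
    rw [lift_inl]
    exact DFunLike.congr_fun (FreeGroup.ext_hom _ (AltMono.μ.comp (FreeGroup.lift fK))
      fun i => by simp [f]) w
  have hτ : ∀ w, FreeGroup.lift f (τw w) = φ₀ (FreeGroup.lift f3 w) := fun w =>
    DFunLike.congr_fun (FreeGroup.ext_hom ((FreeGroup.lift f).comp τw) (φ₀.comp (FreeGroup.lift f3))
      fun i => by
        refine Fin.lastCases ?_ (fun j => ?_) i
        · simp only [MonoidHom.comp_apply, τw, FreeGroup.lift_apply_of, Fin.lastCases_last, hσ, hwK]
          rw [show f3 (Fin.last 3) = Pm from hf3, hP]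
        · simp [τw, f]) w
  have hsub : ∀ w, FreeGroup.lift f (sub w) = FreeGroup.lift (Sum.elim AltMono.μ φ₀) w := fun w =>
    DFunLike.congr_fun (FreeGroup.ext_hom ((FreeGroup.lift f).comp sub)
      (FreeGroup.lift (Sum.elim AltMono.μ φ₀)) fun i => by
        rcases i with k | y
        · simp [sub, hσ, hwK]
        · simp [sub, hτ, hw3]) w
  refine ⟨f, LK.map σw ++ L3.map τw ++ LG.map sub, by simp; omega, ?_, ?_, fun X _ x hx _ => ?_⟩
  · intro w hw
    simp only [List.mem_append, List.mem_map] at hw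
    rcases hw with (⟨v, hv, rfl⟩ | ⟨v, hv, rfl⟩) | ⟨v, hv, rfl⟩
    · rw [hσ, hK.1 v hv, map_one]
    · rw [hτ, hhold3 v hv, map_one]
    · rw [hsub, hholdG v hv]
  · -- generation
    set S := Subgroup.closure (Set.range f)
    have hμ : ∀ k, AltMono.μ k ∈ S := fun k => by
      have hle : (⊤ : Subgroup (K m)) ≤ S.comap AltMono.μ := by
        rw [← hK.2.1, Subgroup.closure_le]
        rintro _ ⟨i, rfl⟩
        exact Subgroup.subset_closure ⟨Sum.inl i, rfl⟩
      exact hle (Subgroup.mem_top k)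
    have hφ : ∀ y, φ₀ y ∈ S := fun y => by
      have hle : (⊤ : Subgroup (SpecialLinearGroup (Fin 3) F)) ≤ S.comap φ₀ := by
        rw [← hgen3, Subgroup.closure_le]
        rintro _ ⟨i, rfl⟩
        refine Fin.lastCases ?_ (fun j => ?_) i
        · rw [SetLike.mem_coe, Subgroup.mem_comap, show f3 (Fin.last 3) = Pm from hf3, hP]
          exact hμ _
        · exact Subgroup.subset_closure ⟨Sum.inr j, rfl⟩
      exact hle (Subgroup.mem_top y)
    refine CfsgLib.Classical.eq_top_of_transvection_mem _ fun i j h t => ?_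
    rw [← StSL.tv_eq h]
    obtain ⟨σ, s0, s1⟩ := SLData.exists_two (p := (SLData.P0 : Fin (m + 4))) (q := SLData.P1) P_ne.1 h
    have : AltMono.μ σ * φ₀ (StSL.tv 0 1 t) * (AltMono.μ σ)⁻¹ = StSL.tv i j t := by
      rw [h₀ _ _ _ (by decide), AltMono.μ_tv _ (e3_inj.ne (by decide))]
      exact congrArg₂ (fun u w => StSL.tv u w t) s0 s1
    rw [← this]
    exact mul_mem (mul_mem (hμ σ) (hφ _)) (inv_mem (hμ σ))
  · -- universality
    obtain ⟨ψ, hψ⟩ := hK.lift X (fun i => x (Sum.inl i)) fun w hw => by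
      rw [← lift_inl]
      exact hx _ (List.mem_append_left _ (List.mem_append_left _ (List.mem_map_of_mem hw)))
    have hgψ : ∀ k, FreeGroup.lift x (σw (wK k)) = ψ k := fun k => by
      rw [lift_inl]
      conv_rhs => rw [← hwK k]
      exact DFunLike.congr_fun (FreeGroup.ext_hom _ (ψ.comp (FreeGroup.lift fK))
        fun i => by simp [hψ]) (wK k)
    let x4 : Fin 4 → X := Fin.lastCases (ψ (k3 m)) fun j => x (Sum.inr j)
    have gτ : ∀ w, FreeGroup.lift x (τw w) = FreeGroup.lift x4 w := fun w =>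
      DFunLike.congr_fun (FreeGroup.ext_hom ((FreeGroup.lift x).comp τw) (FreeGroup.lift x4)
        fun i => by
          refine Fin.lastCases ?_ (fun j => ?_) i
          · simp only [τw, x4, MonoidHom.comp_apply, FreeGroup.lift_apply_of, Fin.lastCases_last]
            exact hgψ _
          · simp [τw, x4]) w
    obtain ⟨φ, hφ⟩ := huniv3 X x4 (fun w hw => by
      rw [← gτ]
      exact hx _ (List.mem_append_left _ (List.mem_append_right _ (List.mem_map_of_mem hw)))) (by
      rw [show (3 : Fin 4) = Fin.last 3 from rfl]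
      simp only [x4, Fin.lastCases_last]
      rw [← map_mul, ← map_mul, k3_three, map_one])
    have hgφ : ∀ y, FreeGroup.lift x (τw (w3 y)) = φ y := fun y => by
      rw [gτ]
      conv_rhs => rw [← hw3 y]
      exact DFunLike.congr_fun (FreeGroup.ext_hom _ (φ.comp (FreeGroup.lift f3))
        fun i => by simp [hφ]) (w3 y)
    have hc : ψ (k3 m) = φ Pm := by
      rw [← hf3, hφ, show (3 : Fin 4) = Fin.last 3 from rfl]
      simp only [x4, Fin.lastCases_last]
    obtain ⟨G, rfl, rfl, hd⟩ := hunivG X ψ φ hc fun w hw => by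
      rw [← hx (sub w) (List.mem_append_right _ (List.mem_map_of_mem hw))]
      exact (DFunLike.congr_fun (FreeGroup.ext_hom ((FreeGroup.lift x).comp sub)
        (FreeGroup.lift (Sum.elim ψ φ)) fun i => by
          rcases i with k | y
          · simp [sub, hgψ]
          · simp [sub, hgφ]) w).symm
    obtain ⟨Φ, hΦμ, hΦφ⟩ := G.exists_hom hd h₀ hP
    refine ⟨Φ, fun i => ?_⟩
    rcases i with i | j
    · exact (hΦμ _).trans (hψ i)
    · refine (hΦφ _).trans ((hφ _).trans ?_)
      simp [x4]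

/-- The presentation of the alternating group of degree five. -/
theorem presData_five : ∃ (f : Fin 2 → alternatingGroup (Fin 5)) (L : List (FreeGroup (Fin 2))),
    L.length ≤ 3 ∧ PresData f L := by
  obtain ⟨e⟩ := CfsgLib.Recog.presentation_alternating_five
  set L : List (FreeGroup (Fin 2)) := [FreeGroup.of 0 ^ 3, FreeGroup.of 1 ^ 5,
    (FreeGroup.of 0 * FreeGroup.of 1) ^ 2] with hLdef
  set R : Set (FreeGroup (Fin 2)) := {FreeGroup.of 0 ^ 3, FreeGroup.of 1 ^ 5,
    (FreeGroup.of 0 * FreeGroup.of 1) ^ 2}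
  have hmem : ∀ {w}, w ∈ L ↔ w ∈ R := fun {w} => by simp [hLdef, R]
  refine ⟨fun i => e (PresentedGroup.of i), L, by simp [hLdef], fun w hw => ?_, ?_,
    fun X _ x hx _ => ?_⟩
  · have : FreeGroup.lift (fun i => e (PresentedGroup.of i)) w = e (PresentedGroup.mk R w) :=
      DFunLike.congr_fun (FreeGroup.ext_hom _ (e.toMonoidHom.comp (PresentedGroup.mk R))
        fun i => by simp [PresentedGroup.of]) w
    rw [this, PresentedGroup.one_of_mem (hmem.1 hw), map_one]
  · rw [Set.range_comp', ← MulEquiv.coe_toMonoidHom, ← MonoidHom.map_closure,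
      PresentedGroup.closure_range_of, Subgroup.map_top_of_surjective _ e.surjective]
  · exact ⟨(PresentedGroup.toGroup (f := x) (rels := R) fun w hw => hx w (hmem.2 hw)).comp
      e.symm.toMonoidHom, fun i => by simp⟩

/-- The bounds in every degree. -/
theorem exists_pres (F : Type*) [Field F] [Fintype F] (m : ℕ) :
    ∃ (ι : Type) (_ : Fintype ι) (f : ι → SpecialLinearGroup (Fin (m + 4)) F)
      (L : List (FreeGroup ι)), PresData f L ∧ Fintype.card ι ≤ 6 ∧
        L.length + (7 - Fintype.card ι) ≤ 25 ∧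
        (m = 0 → L.length + (6 - Fintype.card ι) ≤ 21) ∧
        (m = 1 → L.length + (6 - Fintype.card ι) ≤ 22) := by
  have key : ∀ {ι : Type} [Fintype ι] {fK : ι → K m} {LK : List (FreeGroup ι)},
      PresData fK LK → Fintype.card ι ≤ 3 →
      LK.length + 13 + nGlue m + (4 - Fintype.card ι) ≤ 25 →
      (m = 0 → LK.length + 13 + nGlue m + (3 - Fintype.card ι) ≤ 21) →
      (m = 1 → LK.length + 13 + nGlue m + (3 - Fintype.card ι) ≤ 22) →
      ∃ (κ : Type) (_ : Fintype κ) (f : κ → SpecialLinearGroup (Fin (m + 4)) F)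
        (L : List (FreeGroup κ)), PresData f L ∧ Fintype.card κ ≤ 6 ∧
          L.length + (7 - Fintype.card κ) ≤ 25 ∧
          (m = 0 → L.length + (6 - Fintype.card κ) ≤ 21) ∧
          (m = 1 → L.length + (6 - Fintype.card κ) ≤ 22) := by
    intro ι _ fK LK hK hc h1 h2 h3
    obtain ⟨f, L, hL, hf⟩ := presData_sl F m hK
    exact ⟨ι ⊕ Fin 3, inferInstance, f, L, hf, by simp; omega, by simp; omega,
      fun h => by have := h2 h; simp; omega, fun h => by have := h3 h; simp; omega⟩
  rcases (show m = 0 ∨ m = 1 ∨ m = 2 ∨ 3 ≤ m by omega) with rfl | rfl | rfl | h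
  · obtain ⟨f, L, hL, hd⟩ := ShortAlt.pres_small (ShortAlt.target_alt 2) (by norm_num)
    exact key (fK := f) hd (by simp) (by simp [nGlue]; omega) (fun _ => by simp [nGlue]; omega)
      (fun h => absurd h (by norm_num))
  · obtain ⟨f, L, hL, hd⟩ := presData_five
    exact key (fK := f) hd (by simp) (by simp [nGlue]; omega) (fun h => absurd h (by norm_num))
      (fun _ => by simp [nGlue]; omega)
  · obtain ⟨f, L, hL, hd⟩ := ShortAlt.pres_small (ShortAlt.target_alt 4) (by norm_num)
    exact key (fK := f) hd (by simp) (by simp [nGlue]; omega) (fun h => absurd h (by norm_num))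
      (fun h => absurd h (by norm_num))
  · obtain ⟨f, L, hL, hd⟩ := (ShortAlt.pres_big (ShortAlt.target_alt (m + 2)) (by omega)).2
    exact key (fK := f) hd (by simp) (by simp [nGlue, show m ≠ 1 by omega]; omega)
      (fun h' => absurd h' (by omega)) (fun h' => absurd h' (by omega))

/-- The quotient by the centre. -/
theorem exists_psl {F : Type*} [Field F] [Fintype F] {n : ℕ} (hn : 1 ≤ n) {ι : Type}
    {f : ι → SpecialLinearGroup (Fin n) F} {L : List (FreeGroup ι)} (h : PresData f L) :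
    ∃ (f' : ι → ProjectiveSpecialLinearGroup (Fin n) F) (L' : List (FreeGroup ι)),
      L'.length ≤ L.length + 1 ∧ PresData f' L' := by
  have : IsCyclic (Subgroup.center (SpecialLinearGroup (Fin n) F)) :=
    isCyclic_of_surjective (SpecialLinearGroup.center_equiv_rootsOfUnity'
      (⟨0, by omega⟩ : Fin n)).symm (MulEquiv.surjective _)
  obtain ⟨z, hz⟩ := (Subgroup.isCyclic_iff_exists_zpowers_eq_top _).1 this
  obtain ⟨v, hv⟩ := h.quotient (Subgroup.center (SpecialLinearGroup (Fin n) F)) z hz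
  exact ⟨_, v :: L, by simp, hv⟩

end CfsgLib.Pres.SLSeven
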