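import Cfsg.Agent.Lib.Pres.SLSeven.Glue
import Cfsg.Agent.Lib.Pres.SLSeven.Gen3
import Cfsg.Agent.Lib.Pres.ShortAlt.Perms

/-!
The stabiliser of the first two indices, and what a few relations say about its action on the
block.
-/

set_option autoImplicit false

namespace CfsgLib.Pres.SLSeven

open Matrix Equiv
open CfsgLib.Pres.SLData (K act P0 P1 P2 P3 act_mul act_inv act_inj)
open CfsgLib.Recog (pt pt_ne)

variable {m : ℕ} {F : Type*} [Field F] {X : Type*} [Group X]
  (ψ : K m →* X) (φ : SpecialLinearGroup (Fin 3) F →* X)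

/-- conjugation acts on the block as a relabelling -/
def Acts (σ : K m) (b : Perm (Fin 3)) : Prop :=
  ∀ y ∈ L2 F, ψ σ * φ y * (ψ σ)⁻¹ = φ (θ b y)

theorem acts_of_pair {σ : K m} {b : Perm (Fin 3)} {A B : SpecialLinearGroup (Fin 3) F}
    (hAB : L2 F ≤ Subgroup.closure {A, B}) (hA : ψ σ * φ A * (ψ σ)⁻¹ = φ (θ b A))
    (hB : ψ σ * φ B * (ψ σ)⁻¹ = φ (θ b B)) : Acts ψ φ σ b := by
  intro y hy
  have hle : Subgroup.closure {A, B} ≤
      ((MulAut.conj (ψ σ)).toMonoidHom.comp φ).eqLocus (φ.comp (θ b)) := by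
    rw [Subgroup.closure_le]
    rintro _ (rfl | rfl)
    exacts [hA, hB]
  exact hle (hAB hy)

theorem acts_one {σ : K m} : Acts ψ φ σ 1 ↔ ∀ y ∈ L2 F, Commute (ψ σ) (φ y) := by
  refine forall₂_congr fun y _ => ?_
  rw [θ_one, mul_inv_eq_iff_eq_mul]
  rfl

/-- an involution from a group with a given element of order two -/
def parity {α : Type*} [Fintype α] [DecidableEq α] {G : Type*} [Group G] (s : G) (hs : s * s = 1) :
    Perm α →* G where
  toFun π := if Perm.sign π = 1 then 1 else s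
  map_one' := by simp
  map_mul' a b := by
    rcases Int.units_eq_one_or (Perm.sign a) with e | e <;>
      rcases Int.units_eq_one_or (Perm.sign b) with e' | e' <;> simp [e, e', hs]

theorem parity_or {α : Type*} [Fintype α] [DecidableEq α] {G : Type*} [Group G] (s : G)
    (hs : s * s = 1) (π : Perm α) :
    (Perm.sign π = 1 ∧ parity s hs π = 1) ∨ (Perm.sign π = -1 ∧ parity s hs π = s) := by
  rcases Int.units_eq_one_or (Perm.sign π) with e | e
  · exact Or.inl ⟨e, if_pos e⟩
  · exact Or.inr ⟨e, if_neg (by rw [e]; decide)⟩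

/-- the further indices, the fourth put first -/
def ev (m : ℕ) (hm : 2 ≤ m) : Fin (m + 2) ↪ Fin (m + 4) :=
  ((Equiv.swap (pt m 0) (pt m 3)).toEmbedding).trans
    ⟨fun i => ⟨i.val + 2, by omega⟩, fun a b h => Fin.ext (by simpa using congrArg Fin.val h)⟩

theorem ev_three (hm : 2 ≤ m) : ev m hm (pt m 3) = P2 := by
  refine Fin.ext ?_
  show (Equiv.swap (pt m 0) (pt m 3) (pt m 3)).val + 2 = 2
  rw [swap_apply_right]
  simp [pt, Fin.ofNat]

theorem ev_range (hm : 2 ≤ m) (k : Fin (m + 4)) : (∃ i, ev m hm i = k) ↔ k ≠ P0 ∧ k ≠ P1 := by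
  constructor
  · rintro ⟨i, rfl⟩
    refine ⟨fun e => ?_, fun e => ?_⟩ <;>
    · have h2 : 2 ≤ (ev m hm i).val := Nat.le_add_left 2 _
      rw [e] at h2
      simp at h2
  · rintro ⟨h0, h1⟩
    have hk : 2 ≤ k.val := by
      have := k.isLt
      simp only [Ne, Fin.ext_iff] at h0 h1
      omega
    refine ⟨Equiv.swap (pt m 0) (pt m 3) ⟨k.val - 2, by omega⟩, Fin.ext ?_⟩
    show (Equiv.swap (pt m 0) (pt m 3) (Equiv.swap (pt m 0) (pt m 3) _)).val + 2 = k.val
    rw [Equiv.swap_apply_self]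
    show k.val - 2 + 2 = k.val
    omega

theorem ev_via_fix (hm : 2 ≤ m) (π : Perm (Fin (m + 2))) :
    Perm.viaEmbeddingHom (ev m hm) π P0 = P0 ∧ Perm.viaEmbeddingHom (ev m hm) π P1 = P1 :=
  ⟨ShortAlt.via_fix _ _ fun x h => ((ev_range hm P0).1 ⟨x, h⟩).1 rfl,
    ShortAlt.via_fix _ _ fun x h => ((ev_range hm P1).1 ⟨x, h⟩).2 rfl⟩

/-- the isomorphism from the symmetric group of the further indices onto the stabiliser of the
unordered pair of the first two -/
noncomputable def J (m : ℕ) (hm : 2 ≤ m) : Perm (Fin (m + 2)) →* K m where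
  toFun π := ⟨parity (swap P0 P1) (Equiv.swap_mul_self _ _) π * Perm.viaEmbeddingHom (ev m hm) π, by
    rw [Perm.mem_alternatingGroup, map_mul, ShortAlt.sign_via]
    rcases parity_or (swap (P0 : Fin (m + 4)) P1) (Equiv.swap_mul_self _ _) π with
      ⟨e, e'⟩ | ⟨e, e'⟩ <;> rw [e', e]
    · simp
    · rw [Perm.sign_swap P_ne.1]; rfl⟩
  map_one' := Subtype.ext (by
    show parity (swap (P0 : Fin (m + 4)) P1) _ 1 * Perm.viaEmbeddingHom (ev m hm) 1 = 1
    rw [map_one, map_one, one_mul])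
  map_mul' a b := Subtype.ext (by
    show parity (swap (P0 : Fin (m + 4)) P1) _ (a * b) * Perm.viaEmbeddingHom (ev m hm) (a * b) =
      parity (swap (P0 : Fin (m + 4)) P1) _ a * Perm.viaEmbeddingHom (ev m hm) a *
        (parity (swap (P0 : Fin (m + 4)) P1) _ b * Perm.viaEmbeddingHom (ev m hm) b)
    rw [map_mul, map_mul]
    have hc : Commute (Perm.viaEmbeddingHom (ev m hm) a)
        (parity (swap (P0 : Fin (m + 4)) P1) (Equiv.swap_mul_self _ _) b) := by
      rcases parity_or (swap (P0 : Fin (m + 4)) P1) (Equiv.swap_mul_self _ _) b with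
        ⟨-, e⟩ | ⟨-, e⟩ <;> rw [e]
      · exact Commute.one_right _
      · have h := swap_apply_apply (Perm.viaEmbeddingHom (ev m hm) a) (P0 : Fin (m + 4)) P1
        rw [(ev_via_fix hm a).1, (ev_via_fix hm a).2, eq_mul_inv_iff_mul_eq] at h
        exact h.symm
    simp only [mul_assoc]
    rw [← mul_assoc (Perm.viaEmbeddingHom (ev m hm) a), hc.eq, mul_assoc])

theorem J_apply (hm : 2 ≤ m) (π : Perm (Fin (m + 2))) (i : Fin (m + 2)) :
    act (J m hm π) (ev m hm i) = ev m hm (π i) := by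
  show (parity (swap (P0 : Fin (m + 4)) P1) _ π * Perm.viaEmbeddingHom (ev m hm) π :
    Perm (Fin (m + 4))) (ev m hm i) = _
  rw [Perm.mul_apply, ShortAlt.via_app]
  obtain ⟨h0, h1⟩ := (ev_range hm (ev m hm (π i))).1 ⟨_, rfl⟩
  rcases parity_or (swap (P0 : Fin (m + 4)) P1) (Equiv.swap_mul_self _ _) π with
    ⟨-, e⟩ | ⟨-, e⟩ <;> rw [e]
  · rfl
  · exact swap_apply_of_ne_of_ne h0 h1

theorem J_fix (hm : 2 ≤ m) {π : Perm (Fin (m + 2))} (h : Perm.sign π = 1) :
    act (J m hm π) P0 = P0 ∧ act (J m hm π) P1 = P1 := by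
  constructor <;>
  · show (parity (swap (P0 : Fin (m + 4)) P1) _ π * Perm.viaEmbeddingHom (ev m hm) π :
      Perm (Fin (m + 4))) _ = _
    rcases parity_or (swap (P0 : Fin (m + 4)) P1) (Equiv.swap_mul_self _ _) π with
      ⟨-, e⟩ | ⟨e, -⟩
    · rw [e, one_mul]
      first | exact (ev_via_fix hm π).1 | exact (ev_via_fix hm π).2
    · rw [h] at e; simp at e

theorem J_surj (hm : 2 ≤ m) (σ : K m)
    (h : (act σ P0 = P0 ∧ act σ P1 = P1) ∨ (act σ P0 = P1 ∧ act σ P1 = P0)) :
    ∃ π, J m hm π = σ ∧ ((act σ P0 = P0 → Perm.sign π = 1) ∧ (act σ P0 = P1 → Perm.sign π = -1)) := by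
  obtain ⟨n01, -, -, -, -, -⟩ := P_ne (m := m)
  have hr : ∀ i, ∃ j, ev m hm j = act σ (ev m hm i) := fun i => by
    obtain ⟨a0, a1⟩ := (ev_range hm (ev m hm i)).1 ⟨_, rfl⟩
    rw [ev_range]
    rcases h with ⟨b0, b1⟩ | ⟨b0, b1⟩
    · exact ⟨fun e => a0 (act_inj σ (e.trans b0.symm)), fun e => a1 (act_inj σ (e.trans b1.symm))⟩
    · exact ⟨fun e => a1 (act_inj σ (e.trans b1.symm)), fun e => a0 (act_inj σ (e.trans b0.symm))⟩
  choose f hf using hr
  have hinj : Function.Injective f := fun a b e => by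
    have := congrArg (ev m hm) e
    rw [hf, hf] at this
    exact (ev m hm).injective (act_inj σ this)
  let π : Perm (Fin (m + 2)) := Equiv.ofBijective f (Finite.injective_iff_bijective.1 hinj)
  have hv : ∀ i, Perm.viaEmbeddingHom (ev m hm) π (ev m hm i) = act σ (ev m hm i) := fun i => by
    rw [ShortAlt.via_app]; exact hf i
  obtain ⟨c, hc, hcs⟩ : ∃ c : Perm (Fin (m + 4)),
      (σ : Perm (Fin (m + 4))) = c * Perm.viaEmbeddingHom (ev m hm) π ∧
      ((act σ P0 = P0 ∧ c = 1) ∨ (act σ P0 = P1 ∧ c = swap P0 P1)) := by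
    rcases h with ⟨b0, b1⟩ | ⟨b0, b1⟩
    · refine ⟨1, ?_, Or.inl ⟨b0, rfl⟩⟩
      ext k : 1
      rw [one_mul]
      by_cases hk : ∃ i, ev m hm i = k
      · obtain ⟨i, rfl⟩ := hk; exact (hv i).symm
      · rw [ev_range, not_and_or, not_not, not_not] at hk
        rcases hk with rfl | rfl
        · rw [(ev_via_fix hm π).1]; exact b0
        · rw [(ev_via_fix hm π).2]; exact b1
    · refine ⟨swap P0 P1, ?_, Or.inr ⟨b0, rfl⟩⟩
      ext k : 1
      rw [Perm.mul_apply]
      by_cases hk : ∃ i, ev m hm i = k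
      · obtain ⟨i, rfl⟩ := hk
        obtain ⟨a0, a1⟩ := (ev_range hm (ev m hm (π i))).1 ⟨_, rfl⟩
        rw [ShortAlt.via_app, swap_apply_of_ne_of_ne a0 a1]
        exact (hf i).symm
      · rw [ev_range, not_and_or, not_not, not_not] at hk
        rcases hk with rfl | rfl
        · rw [(ev_via_fix hm π).1, swap_apply_left]; exact b0
        · rw [(ev_via_fix hm π).2, swap_apply_right]; exact b1
  have hsign := congrArg Perm.sign hc
  rw [Perm.mem_alternatingGroup.1 σ.2, map_mul, ShortAlt.sign_via] at hsign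
  rcases hcs with ⟨b0, rfl⟩ | ⟨b0, rfl⟩
  · rw [map_one, one_mul] at hsign
    refine ⟨π, Subtype.ext ?_, fun _ => hsign.symm, fun e => absurd (b0.symm.trans e) n01⟩
    show parity (swap (P0 : Fin (m + 4)) P1) _ π * _ = (σ : Perm (Fin (m + 4)))
    rw [hc]
    congr 1
    exact if_pos hsign.symm
  · rw [Perm.sign_swap n01] at hsign
    have hs : Perm.sign π = -1 := by
      rcases Int.units_eq_one_or (Perm.sign π) with e | e
      · rw [e] at hsign; simp at hsign
      · exact e
    refine ⟨π, Subtype.ext ?_, fun e => absurd (e.symm.trans b0) n01, fun _ => hs⟩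
    show parity (swap (P0 : Fin (m + 4)) P1) _ π * _ = (σ : Perm (Fin (m + 4)))
    rw [hc]
    congr 1
    exact if_neg (by rw [hs]; decide)

/-- the cycle of the further indices that fixes the third -/
noncomputable def stabS (m : ℕ) (hm : 2 ≤ m) : K m := J m hm (ShortAlt.zc m 0)

/-- an element exchanging the first two indices -/
noncomputable def stabK (m : ℕ) (hm : 2 ≤ m) : K m :=
  J m hm (ShortAlt.lc (swap (pt m 0) (pt m 1)))

theorem sign_lc (hm : 2 ≤ m) : Perm.sign (ShortAlt.lc (swap (pt m 0) (pt m 1))) = -1 := by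
  rw [ShortAlt.lc, map_mul, Perm.sign_swap (pt_ne m (by omega) (by omega) zero_ne_one),
    Perm.mem_alternatingGroup.1 (ShortAlt.tprod_mem (by omega))]
  rfl

theorem stabS_fix (hm : 2 ≤ m) :
    act (stabS m hm) P0 = P0 ∧ act (stabS m hm) P1 = P1 ∧ act (stabS m hm) P2 = P2 := by
  have hs : Perm.sign (ShortAlt.zc m 0) = 1 :=
    Perm.mem_alternatingGroup.1 (ShortAlt.zc_mem (by omega))
  refine ⟨(J_fix hm hs).1, (J_fix hm hs).2, ?_⟩
  rw [← ev_three hm, stabS, J_apply]
  congr 1
  rw [ShortAlt.zc, Perm.mul_apply,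
    swap_apply_of_ne_of_ne (pt_ne m (by omega) (by omega) (by omega))
      (pt_ne m (by omega) (by omega) (by omega)),
    swap_apply_of_ne_of_ne (pt_ne m (by omega) (by omega) (by omega))
      (pt_ne m (by omega) (by omega) (by omega))]

theorem stabK_acts (hm : 2 ≤ m) : act (stabK m hm) P0 = P1 ∧ act (stabK m hm) P1 = P0 := by
  have hp : parity (swap (P0 : Fin (m + 4)) P1) (Equiv.swap_mul_self _ _)
      (ShortAlt.lc (swap (pt m 0) (pt m 1))) = swap P0 P1 := if_neg (by rw [sign_lc hm]; decide)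
  constructor <;>
  · show (parity (swap (P0 : Fin (m + 4)) P1) _ _ * Perm.viaEmbeddingHom (ev m hm) _ :
      Perm (Fin (m + 4))) _ = _
    rw [Perm.mul_apply, hp]
    first
      | (rw [(ev_via_fix hm _).1, swap_apply_left])
      | (rw [(ev_via_fix hm _).2, swap_apply_right])

theorem stab_acts (hm : 2 ≤ m)
    (hS : ∀ y, Commute (ψ (stabS m hm)) (φ y)) (hK : Acts ψ φ (stabK m hm) sw) :
    (∀ σ : K m, act σ P0 = P0 → act σ P1 = P1 → Acts ψ φ σ 1) ∧
      ∀ σ : K m, act σ P0 = P1 → act σ P1 = P0 → Acts ψ φ σ sw := by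
  let b : Perm (Fin (m + 2)) →* Perm (Fin 3) := parity sw (by decide)
  let M : Subgroup (Perm (Fin (m + 2))) :=
    { carrier := {π | Acts ψ φ (J m hm π) (b π)}
      one_mem' := fun y _ => by simp [θ_one]
      mul_mem' := fun {π π'} h h' y hy => by
        have hy' : θ (b π') y ∈ L2 F := by
          rcases parity_or sw (by decide) π' with ⟨-, e⟩ | ⟨-, e⟩
          · show θ (parity sw _ π') y ∈ L2 F
            rw [e, θ_one]; exact hy
          · show θ (parity sw _ π') y ∈ L2 F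
            rw [e]; exact θ_sw_mem hy
        rw [map_mul, map_mul, map_mul, θ_mul, ← h _ hy', ← h' y hy]
        group
      inv_mem' := fun {π} h y hy => by
        have hb : b π * b π = 1 := by
          rcases parity_or sw (by decide) π with ⟨-, e⟩ | ⟨-, e⟩ <;>
            (show parity sw _ π * parity sw _ π = 1) <;> rw [e] <;> decide
        have hbi : (b π)⁻¹ = b π := inv_eq_of_mul_eq_one_left hb
        have hy' : θ (b π) y ∈ L2 F := by
          rcases parity_or sw (by decide) π with ⟨-, e⟩ | ⟨-, e⟩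
          · show θ (parity sw _ π) y ∈ L2 F
            rw [e, θ_one]; exact hy
          · show θ (parity sw _ π) y ∈ L2 F
            rw [e]; exact θ_sw_mem hy
        have h1 := h _ hy'
        rw [← θ_mul, hb, θ_one] at h1
        rw [map_inv, map_inv, map_inv, hbi]
        conv_lhs => rw [← h1]
        group }
  obtain ⟨hC, hC01⟩ := ShortAlt.lc_spec (m := m) (by omega) (Or.inr rfl)
  set g := ShortAlt.lc (swap (pt m 0) (pt m 1))
  have hg : g ∈ M := by
    show Acts ψ φ (J m hm g) (b g)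
    rw [show b g = sw from if_neg (by rw [sign_lc hm]; decide)]
    exact hK
  have hz : ShortAlt.zc m 0 ∈ M := by
    show Acts ψ φ (J m hm (ShortAlt.zc m 0)) (b (ShortAlt.zc m 0))
    rw [show b (ShortAlt.zc m 0) = 1 from
      if_pos (Perm.mem_alternatingGroup.1 (ShortAlt.zc_mem (by omega))), acts_one]
    exact fun y _ => hS y
  have hA : alternatingGroup (Fin (m + 2)) ≤ M :=
    ShortAlt.alt_le_closure hC hC01 (by omega) hg hz
  have hall : ∀ π, π ∈ M := fun π => by
    rcases Int.units_eq_one_or (Perm.sign π) with e | e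
    · exact hA (Perm.mem_alternatingGroup.2 e)
    · have : π * g⁻¹ ∈ M := hA (Perm.mem_alternatingGroup.2 (by
        rw [map_mul, map_inv, e, sign_lc hm]; rfl))
      have := mul_mem this hg
      rwa [inv_mul_cancel_right] at this
  constructor
  · intro σ h0 h1
    obtain ⟨π, rfl, hs, -⟩ := J_surj hm σ (Or.inl ⟨h0, h1⟩)
    have : Acts ψ φ (J m hm π) (b π) := hall π
    rwa [show b π = 1 from if_pos (hs h0)] at this
  · intro σ h0 h1
    obtain ⟨π, rfl, -, hs⟩ := J_surj hm σ (Or.inr ⟨h0, h1⟩)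
    have : Acts ψ φ (J m hm π) (b π) := hall π
    rwa [show b π = sw from if_neg (by rw [hs h0]; decide)] at this

/-- commutation with the shift and one more generator -/
theorem commute_all {σ : K m} (h0 : act σ P0 = P0) (h1 : act σ P1 = P1) (h2 : act σ P2 = P2)
    (hc : ψ (k3 m) = φ Pm) {a : SpecialLinearGroup (Fin 3) F}
    (ha : Subgroup.closure {a, Pm} = ⊤) (hrel : Commute (ψ σ) (φ a))
    (y : SpecialLinearGroup (Fin 3) F) : Commute (ψ σ) (φ y) := by
  have hk : Commute (ψ σ) (φ Pm) := by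
    rw [← hc]
    refine Commute.map ?_ ψ
    refine mul_inv_eq_iff_eq_mul.1 (Subtype.ext ?_)
    show (σ : Perm (Fin (m + 4))) * (swap P0 P1 * swap P1 P2) * (σ : Perm (Fin (m + 4)))⁻¹ =
      swap P0 P1 * swap P1 P2
    rw [show ∀ a b c : Perm (Fin (m + 4)), a * (b * c) * a⁻¹ = (a * b * a⁻¹) * (a * c * a⁻¹) from
      fun a b c => by group, ← swap_apply_apply, ← swap_apply_apply]
    show swap (act σ P0) (act σ P1) * swap (act σ P1) (act σ P2) = _
    rw [h0, h1, h2]
  have hle : Subgroup.closure {a, Pm} ≤ (Subgroup.centralizer {ψ σ}).comap φ := by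
    rw [Subgroup.closure_le]
    rintro _ (rfl | rfl) <;> rw [SetLike.mem_coe, Subgroup.mem_comap,
      Subgroup.mem_centralizer_singleton_iff]
    exacts [hrel.symm.eq, hk.symm.eq]
  exact (Subgroup.mem_centralizer_singleton_iff.1 (hle (ha ▸ Subgroup.mem_top y))).symm

/-- a three-cycle of the further indices for five indices -/
def k234 : K 1 :=
  ⟨swap (P2 : Fin 5) P3 * swap P3 ⟨4, by omega⟩, sign_pair (by decide) (by decide)⟩

theorem stab_four : ∀ σ : K 0, act σ P0 = P0 → act σ P1 = P1 → σ = 1 := by decide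

set_option maxRecDepth 4000 in
theorem stab_five : ∀ σ : K 1, act σ P0 = P0 → act σ P1 = P1 →
    σ = 1 ∨ σ = k234 ∨ σ = k234 * k234 := by decide

end CfsgLib.Pres.SLSeven
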